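import Cfsg.Agent.Bt.Defs

set_option autoImplicit false
set_option maxRecDepth 1000000

namespace CF.Bt.OutM11

open CF.Comp

noncomputable def X_0 : Net := (Net.cons (nat_lit 1) (nat_lit 283972) (Net.cons (nat_lit 2) (nat_lit 3277088) (Net.cons (nat_lit 4) (nat_lit 2048) (Net.cons (nat_lit 8) (nat_lit 195) (Net.cons (nat_lit 16) (nat_lit 199) (Net.cons (nat_lit 8) (nat_lit 119) (Net.cons (nat_lit 4) (nat_lit 591618) (Net.cons (nat_lit 2) (nat_lit 3145746) (Net.cons (nat_lit 1) (nat_lit 83220) Net.nil)))))))))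
noncomputable def X_1 : Net := (Net.cons (nat_lit 1) (nat_lit 4215812) (Net.cons (nat_lit 2) (nat_lit 78112) (Net.cons (nat_lit 4) (nat_lit 65536) (Net.cons (nat_lit 8) (nat_lit 36) (Net.cons (nat_lit 16) (nat_lit 180) (Net.cons (nat_lit 8) (nat_lit 142) (Net.cons (nat_lit 4) (nat_lit 197384) (Net.cons (nat_lit 2) (nat_lit 2102064) (Net.cons (nat_lit 1) (nat_lit 5243908) Net.nil)))))))))
noncomputable def X_2 : Net := (Net.cons (nat_lit 1) (nat_lit 344064) (Net.cons (nat_lit 2) (nat_lit 2167072) (Net.cons (nat_lit 4) (nat_lit 921088) (Net.cons (nat_lit 8) (nat_lit 72) (Net.cons (nat_lit 16) (nat_lit 104) (Net.cons (nat_lit 8) (nat_lit 222) (Net.cons (nat_lit 4) (nat_lit 853760) (Net.cons (nat_lit 2) (nat_lit 3280896) (Net.cons (nat_lit 1) (nat_lit 5312528) Net.nil)))))))))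
noncomputable def X : List Net := [X_0, X_1, X_2]
noncomputable def X1_0 : Net := (Net.cons (nat_lit 1) (nat_lit 4473156) (Net.cons (nat_lit 2) (nat_lit 1052672) (Net.cons (nat_lit 4) (nat_lit 655360) (Net.cons (nat_lit 8) (nat_lit 146) (Net.cons (nat_lit 16) (nat_lit 146) (Net.cons (nat_lit 8) (nat_lit 106) (Net.cons (nat_lit 4) (nat_lit 524814) (Net.cons (nat_lit 2) (nat_lit 1188400) (Net.cons (nat_lit 1) (nat_lit 4474180) Net.nil)))))))))
noncomputable def X1_1 : Net := (Net.cons (nat_lit 1) (nat_lit 4198656) (Net.cons (nat_lit 2) (nat_lit 2162720) (Net.cons (nat_lit 4) (nat_lit 2048) (Net.cons (nat_lit 8) (nat_lit 1) (Net.cons (nat_lit 16) (nat_lit 33) (Net.cons (nat_lit 8) (nat_lit 147) (Net.cons (nat_lit 4) (nat_lit 3072) (Net.cons (nat_lit 2) (nat_lit 3211296) (Net.cons (nat_lit 1) (nat_lit 4198660) Net.nil)))))))))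
noncomputable def X1_2 : Net := (Net.cons (nat_lit 1) (nat_lit 5570880) (Net.cons (nat_lit 2) (nat_lit 2293760) (Net.cons (nat_lit 4) (nat_lit 132096) (Net.cons (nat_lit 8) (nat_lit 12) (Net.cons (nat_lit 16) (nat_lit 238) (Net.cons (nat_lit 8) (nat_lit 22) (Net.cons (nat_lit 4) (nat_lit 786688) (Net.cons (nat_lit 2) (nat_lit 2163216) (Net.cons (nat_lit 1) (nat_lit 4523284) Net.nil)))))))))
noncomputable def X1_3 : Net := (Net.cons (nat_lit 1) (nat_lit 4264272) (Net.cons (nat_lit 2) (nat_lit 66048) (Net.cons (nat_lit 8) (nat_lit 68) (Net.cons (nat_lit 16) (nat_lit 70) (Net.cons (nat_lit 8) (nat_lit 108) (Net.cons (nat_lit 4) (nat_lit 256) (Net.cons (nat_lit 2) (nat_lit 2163216) (Net.cons (nat_lit 1) (nat_lit 4264272) Net.nil))))))))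
noncomputable def X1_4 : Net := (Net.cons (nat_lit 1) (nat_lit 1310976) (Net.cons (nat_lit 2) (nat_lit 201216) (Net.cons (nat_lit 4) (nat_lit 1536) (Net.cons (nat_lit 8) (nat_lit 82) (Net.cons (nat_lit 16) (nat_lit 118) (Net.cons (nat_lit 8) (nat_lit 90) (Net.cons (nat_lit 4) (nat_lit 525824) (Net.cons (nat_lit 2) (nat_lit 201232) (Net.cons (nat_lit 1) (nat_lit 1310976) Net.nil)))))))))
noncomputable def X1 : List Net := [X1_0, X1_1, X1_2, X1_3, X1_4]
noncomputable def ws : List (List Nat) := [[8, 2, 15, 6, 10, 11, 13], [3, 2, 16, 6, 12, 9, 15], [2, 2, 10, 6, 11, 14, 14]]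
noncomputable def W : List (List Nat) := [[2, 4, 1, 1, 5, 3, 2], [4, 8, 3, 3, 8], [7, 3, 8, 3, 3], [11, 11, 9, 11, 9], [12, 9, 11]]
noncomputable def c : List Lvl := [⟨(nat_lit 19), [[(nat_lit 1)],
  [(nat_lit 3)],
  [(nat_lit 5)]], (nat_lit 3)⟩,
  ⟨(nat_lit 15), [[(nat_lit 3)],
  [(nat_lit 7)]], (nat_lit 3)⟩,
  ⟨(nat_lit 11), [[(nat_lit 9)],
  [(nat_lit 11)]], (nat_lit 3)⟩,
  ⟨(nat_lit 14), [[(nat_lit 13)],
  [(nat_lit 15)]], (nat_lit 2)⟩]
noncomputable def cz : List Lvl := [⟨(nat_lit 5), [[(nat_lit 3)]], (nat_lit 4)⟩]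
noncomputable def Ts : List (List (List Nat)) := [[[], [1], [2], [1, 1], [2, 2]]]
noncomputable def T1 : Tr := (.base (nat_lit 16436384) (.focus 0 (.sym [[1]] (.cons [] 10 1 (.op 4 0 (.focus 0 (.cons [] 0 1 (.op 4 0 (.op 4 0 (.focus 0 (.cons [] 0 1 (.op 7 5 (.op 7 0 (.focus 0 (.cons [] 0 1 .triv .nil)))) .nil)))) .nil))) (.cons [5] 0 0 (.op 5 0 (.and 1 0 (.dead0 0))) .nil)))))
noncomputable def T1K : List (List Nat) := [[1]]
noncomputable def T1F : List (List Nat) := [[], [1]]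
noncomputable def T2 : Tr := (.base (nat_lit 16436384) (.focus 0 (.sym [[1]] (.cons [] 0 5 (.base (nat_lit 15912096) (.focus 0 (.sym [[1]] (.cons [] 4 1 (.op 4 0 (.focus 0 (.cons [] 0 1 (.op 4 0 (.focus 0 (.cons [] 0 1 .triv .nil))) .nil))) (.cons [4] 4 0 (.base (nat_lit 65806) (.op 5 0 (.and 1 0 (.dead0 0)))) (.cons [3] 0 0 (.op 5 0 (.and 1 0 (.dead0 0))) .nil)))))) (.cons [2] 4 0 (.op 5 0 (.and 1 0 (.dead0 0))) (.cons [1] 4 0 (.op 5 0 (.and 1 0 (.dead0 0))) (.cons [5] 0 0 (.base (nat_lit 15912096) (.focus 0 (.sym [[1]] (.cons [] 4 0 (.op 4 0 (.focus 0 (.cons [7, 3] 0 0 (.base (nat_lit 14828544) (.op 5 0 (.and 1 0 (.dead0 0)))) .nil))) (.cons [3] 0 0 (.op 5 0 (.and 1 0 (.dead0 0))) (.cons [4] 4 0 (.base (nat_lit 65806) (.op 5 0 (.and 1 0 (.dead0 0)))) .nil)))))) .nil)))))))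
noncomputable def T2K : List (List Nat) := [[3]]
noncomputable def T2F : List (List Nat) := [[], [1]]
noncomputable def rels : List (List Nat × List Nat) := [(wpow [0, 2, 2] 3, []), (wpow [0, 1, 2] 4, [])]
noncomputable def pts : List Nat := [19]

end CF.Bt.OutM11
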