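import Cfsg.Agent.Bt.Defs

set_option autoImplicit false
set_option maxRecDepth 1000000

namespace CF.Bt.OutHS

open CF.Comp

noncomputable def X_0 : Net := (Net.cons (nat_lit 1) (nat_lit 0x4045514500401450140511440) (Net.cons (nat_lit 2) (nat_lit 0x1223330010112100202010110) (Net.cons (nat_lit 4) (nat_lit 0xc030908000b0805000d000a) (Net.cons (nat_lit 8) (nat_lit 0xa70023007000be00190004) (Net.cons (nat_lit 16) (nat_lit 0x791c0000a8ca00000000) (Net.cons (nat_lit 32) (nat_lit 20793056) (Net.cons (nat_lit 64) (nat_lit 0x96bfd56e7) (Net.cons (nat_lit 32) (nat_lit 0x6000000008d2c7123) (Net.cons (nat_lit 16) (nat_lit 0xa9b90000d9ab00002916) (Net.cons (nat_lit 8) (nat_lit 0x710015001e002400f30017) (Net.cons (nat_lit 4) (nat_lit 0xa0f0c0d05050e00050c0102) (Net.cons (nat_lit 2) (nat_lit 0x2011220133010231120333113) (Net.cons (nat_lit 1) (nat_lit 0x400555404151455450140101) Net.nil)))))))))))))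
noncomputable def X_1 : Net := (Net.cons (nat_lit 1) (nat_lit 0x155150451010450110014044) (Net.cons (nat_lit 2) (nat_lit 0x1331010020230331231032010) (Net.cons (nat_lit 4) (nat_lit 0x901050a060a050e04050201) (Net.cons (nat_lit 8) (nat_lit 0x4700a7003400ac00040002) (Net.cons (nat_lit 16) (nat_lit 0x20440000314e00000000) (Net.cons (nat_lit 32) (nat_lit 0x10000000082060e60) (Net.cons (nat_lit 64) (nat_lit 0x4e2368e75) (Net.cons (nat_lit 32) (nat_lit 0x200000000a6ab5fa7) (Net.cons (nat_lit 16) (nat_lit 0x5adb00009e5100001523) (Net.cons (nat_lit 8) (nat_lit 0x36002e007d006d008800f7) (Net.cons (nat_lit 4) (nat_lit 0x1030b01030a020f000b0703) (Net.cons (nat_lit 2) (nat_lit 0x111011210103320200230030) (Net.cons (nat_lit 1) (nat_lit 0x401044510100045014401514) Net.nil)))))))))))))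
noncomputable def X_2 : Net := (Net.cons (nat_lit 1) (nat_lit 0x5415005504001001041144010) (Net.cons (nat_lit 2) (nat_lit 0x3133121313002303032311200) (Net.cons (nat_lit 4) (nat_lit 0x508040b010200030c000708) (Net.cons (nat_lit 8) (nat_lit 0xf800c900ad00b000050002) (Net.cons (nat_lit 16) (nat_lit 0x7ccb0000060200000007) (Net.cons (nat_lit 32) (nat_lit 0x5000000004d048230) (Net.cons (nat_lit 64) (nat_lit 0x27d259afd) (Net.cons (nat_lit 32) (nat_lit 0xf00000000c034b9d6) (Net.cons (nat_lit 16) (nat_lit 0x53dc000095b4000079df) (Net.cons (nat_lit 8) (nat_lit 0x6100f000d7006e00830083) (Net.cons (nat_lit 4) (nat_lit 0xb0a0a07080a0606060b0e08) (Net.cons (nat_lit 2) (nat_lit 0x3310310302302200022031022) (Net.cons (nat_lit 1) (nat_lit 0x5544101504011515411154010) Net.nil)))))))))))))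
noncomputable def X : List Net := [X_0, X_1, X_2]
noncomputable def X1_0 : Net := (Net.cons (nat_lit 1) (nat_lit 0x4445151404450541054001040) (Net.cons (nat_lit 2) (nat_lit 0x2102321120201331312021000) (Net.cons (nat_lit 4) (nat_lit 0x90001020406010a0f0b0d07) (Net.cons (nat_lit 8) (nat_lit 0xf300cc000b000300610000) (Net.cons (nat_lit 16) (nat_lit 0x80240000049900000000) (Net.cons (nat_lit 32) (nat_lit 0x800000000d8322620) (Net.cons (nat_lit 64) (nat_lit 0x9dcb3ef70) (Net.cons (nat_lit 32) (nat_lit 0x700000000b493383c) (Net.cons (nat_lit 16) (nat_lit 0x542200003f4b000052b0) (Net.cons (nat_lit 8) (nat_lit 0x21007900fc00ac00b3000f) (Net.cons (nat_lit 4) (nat_lit 0xb060601050e090403020000) (Net.cons (nat_lit 2) (nat_lit 0x3111121221022300210301202) (Net.cons (nat_lit 1) (nat_lit 0x1540015445550041041504044) Net.nil)))))))))))))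
noncomputable def X1_1 : Net := (Net.cons (nat_lit 1) (nat_lit 0x505010510005555504511454) (Net.cons (nat_lit 2) (nat_lit 0x1220320213300103321332300) (Net.cons (nat_lit 4) (nat_lit 0xc0200000d0f02050e020e00) (Net.cons (nat_lit 8) (nat_lit 0x900b80026009b0032000c) (Net.cons (nat_lit 16) (nat_lit 0x81520000447500000006) (Net.cons (nat_lit 32) (nat_lit 0x8000000007ce48210) (Net.cons (nat_lit 64) (nat_lit 0x5ffe7f21c) (Net.cons (nat_lit 32) (nat_lit 0xa000000008ed55c5a) (Net.cons (nat_lit 16) (nat_lit 0x339f00008cb00000c0c9) (Net.cons (nat_lit 8) (nat_lit 0x11000300e6009600190067) (Net.cons (nat_lit 4) (nat_lit 0xc0a0107090c030f02000708) (Net.cons (nat_lit 2) (nat_lit 0x303311002201012033201023) (Net.cons (nat_lit 1) (nat_lit 0x451010540150155051150511) Net.nil)))))))))))))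
noncomputable def X1_2 : Net := (Net.cons (nat_lit 1) (nat_lit 0x515144155144441014405440) (Net.cons (nat_lit 2) (nat_lit 0x2030313033130012132313000) (Net.cons (nat_lit 4) (nat_lit 0xf00000105090c060f020108) (Net.cons (nat_lit 8) (nat_lit 0x27004300aa001c00550008) (Net.cons (nat_lit 16) (nat_lit 0xdfd00000930000000001) (Net.cons (nat_lit 32) (nat_lit 0x20000000005058800) (Net.cons (nat_lit 64) (nat_lit 0xb3545ead9) (Net.cons (nat_lit 32) (nat_lit 0x2000000002d001f62) (Net.cons (nat_lit 16) (nat_lit 0x39cf0000c6a200003201) (Net.cons (nat_lit 8) (nat_lit 0x5f004e002e009c00240045) (Net.cons (nat_lit 4) (nat_lit 0x20c0c030b0b0c010e0f000d) (Net.cons (nat_lit 2) (nat_lit 0x2112302122120230201111310) (Net.cons (nat_lit 1) (nat_lit 0x1105001414154145051154) Net.nil)))))))))))))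
noncomputable def X1_3 : Net := (Net.cons (nat_lit 1) (nat_lit 0x5041004054001011041511040) (Net.cons (nat_lit 2) (nat_lit 0x3333211123312312130300) (Net.cons (nat_lit 4) (nat_lit 0x6090c090c0d0605000a0303) (Net.cons (nat_lit 8) (nat_lit 0x7200e000400031002a0001) (Net.cons (nat_lit 16) (nat_lit 0x805d0000a84700000001) (Net.cons (nat_lit 32) (nat_lit 0xc00000000e0010440) (Net.cons (nat_lit 64) (nat_lit 0x7e1e71c78) (Net.cons (nat_lit 32) (nat_lit 0x600000000f61cbe44) (Net.cons (nat_lit 16) (nat_lit 0x6df00000909c00005b0f) (Net.cons (nat_lit 8) (nat_lit 0xbd000a00e9002d00260027) (Net.cons (nat_lit 4) (nat_lit 0x90d090f0b08020c00090f05) (Net.cons (nat_lit 2) (nat_lit 0x2310122031013302203330222) (Net.cons (nat_lit 1) (nat_lit 0x5504051055510414140505111) Net.nil)))))))))))))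
noncomputable def X1_4 : Net := (Net.cons (nat_lit 1) (nat_lit 0x1505454510144450000100050) (Net.cons (nat_lit 2) (nat_lit 0x1133222230310321201300130) (Net.cons (nat_lit 4) (nat_lit 0x10001060f05060c0a020300) (Net.cons (nat_lit 8) (nat_lit 0x610004000700f900660000) (Net.cons (nat_lit 16) (nat_lit 0x81810000c01400000000) (Net.cons (nat_lit 32) (nat_lit 730696896) (Net.cons (nat_lit 64) (nat_lit 0x5afddadca) (Net.cons (nat_lit 32) (nat_lit 0x100000000552faa9b) (Net.cons (nat_lit 16) (nat_lit 0x2469000096750000a0c2) (Net.cons (nat_lit 8) (nat_lit 0x10008e00f000b700a00034) (Net.cons (nat_lit 4) (nat_lit 0xd040d00060f0b0e080c020b) (Net.cons (nat_lit 2) (nat_lit 0x122312022103313230102131) (Net.cons (nat_lit 1) (nat_lit 0x505544501555010045141514) Net.nil)))))))))))))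
noncomputable def X1_5 : Net := (Net.cons (nat_lit 1) (nat_lit 0x4111054410450111151411410) (Net.cons (nat_lit 2) (nat_lit 0x1000013020012033102222220) (Net.cons (nat_lit 4) (nat_lit 0xc090201050505060502020c) (Net.cons (nat_lit 8) (nat_lit 0x8f003200c0001900a6000c) (Net.cons (nat_lit 16) (nat_lit 0x26d2000063180000000c) (Net.cons (nat_lit 32) (nat_lit 0x100000000ae01c010) (Net.cons (nat_lit 64) (nat_lit 0x9aee9d334) (Net.cons (nat_lit 32) (nat_lit 0xf00000000ecabe7c8) (Net.cons (nat_lit 16) (nat_lit 0x16c60000e46b00008b9c) (Net.cons (nat_lit 8) (nat_lit 0x44000100b900b800e50036) (Net.cons (nat_lit 4) (nat_lit 0x8090600090f0602030a0308) (Net.cons (nat_lit 2) (nat_lit 0x1131232001211133103200020) (Net.cons (nat_lit 1) (nat_lit 0x5005154044514545510100414) Net.nil)))))))))))))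
noncomputable def X1_6 : Net := (Net.cons (nat_lit 1) (nat_lit 0x1511100104444514141101040) (Net.cons (nat_lit 2) (nat_lit 0x1303312101332002012101000) (Net.cons (nat_lit 4) (nat_lit 0x9040a000404090202020c00) (Net.cons (nat_lit 8) (nat_lit 0x38002300e6009300720000) (Net.cons (nat_lit 16) (nat_lit 0xa150000000ca00000001) (Net.cons (nat_lit 32) (nat_lit 0x10000000079c04010) (Net.cons (nat_lit 64) (nat_lit 0x27be0ca73) (Net.cons (nat_lit 32) (nat_lit 0x100000000d3926bc8) (Net.cons (nat_lit 16) (nat_lit 0xab3800002e8a00002a63) (Net.cons (nat_lit 8) (nat_lit 0x3c003100e6009100700024) (Net.cons (nat_lit 4) (nat_lit 0xb060a0204060902020e0e02) (Net.cons (nat_lit 2) (nat_lit 0x1303312101332002012101000) (Net.cons (nat_lit 1) (nat_lit 0x1501101104444504541101050) Net.nil)))))))))))))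
noncomputable def X1_7 : Net := (Net.cons (nat_lit 1) (nat_lit 0x445050000550505101140100) (Net.cons (nat_lit 2) (nat_lit 0x1230021220120022000001100) (Net.cons (nat_lit 4) (nat_lit 0x80e040d00090500030400) (Net.cons (nat_lit 8) (nat_lit 0x57000400d100b600820000) (Net.cons (nat_lit 16) (nat_lit 0x250400000c6800000004) (Net.cons (nat_lit 32) (nat_lit 1158420480) (Net.cons (nat_lit 64) (nat_lit 1168980098) (Net.cons (nat_lit 32) (nat_lit 0x500000000cd1e1c7c) (Net.cons (nat_lit 16) (nat_lit 0xaf1c000026e100000a0c) (Net.cons (nat_lit 8) (nat_lit 0x5f000c00d900fe008a004c) (Net.cons (nat_lit 4) (nat_lit 0x80e040b000b0700030004) (Net.cons (nat_lit 2) (nat_lit 0x1230021220120022001001100) (Net.cons (nat_lit 1) (nat_lit 0x445050000550505111140100) Net.nil)))))))))))))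
noncomputable def X1_8 : Net := (Net.cons (nat_lit 1) (nat_lit 0x511114414451540111140000) (Net.cons (nat_lit 2) (nat_lit 0x1320232220000201010200200) (Net.cons (nat_lit 4) (nat_lit 0x3070a0f0c05010001000400) (Net.cons (nat_lit 8) (nat_lit 0xe006b0043002c00020001) (Net.cons (nat_lit 16) (nat_lit 0xc8ca0000480500000000) (Net.cons (nat_lit 32) (nat_lit 0x10000000046480600) (Net.cons (nat_lit 64) (nat_lit 0x466eacf25) (Net.cons (nat_lit 32) (nat_lit 0x1000000008d7d5430) (Net.cons (nat_lit 16) (nat_lit 0xbad8000008a500004008) (Net.cons (nat_lit 8) (nat_lit 0x8600490043003c00020033) (Net.cons (nat_lit 4) (nat_lit 0x90d080d0c070b0003020e02) (Net.cons (nat_lit 2) (nat_lit 0x1320232320000201011200201) (Net.cons (nat_lit 1) (nat_lit 0x511114414551540111140000) Net.nil)))))))))))))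
noncomputable def X1 : List Net := [X1_0, X1_1, X1_2, X1_3, X1_4, X1_5, X1_6, X1_7, X1_8]
noncomputable def ws : List (List Nat) := [[3, 6, 16, 6, 12, 10, 10, 14, 18, 19, 23], [3, 7, 18, 6, 18, 9, 13, 17, 19], [3, 8, 4, 18, 6, 9, 9, 15, 14, 17, 19, 23]]
noncomputable def W : List (List Nat) := [[6, 2, 3, 6, 4, 6, 1, 3, 3, 6, 1], [5, 5, 1, 5, 3, 6], [8, 8, 10, 7, 7], [10, 7, 10, 8, 10, 10, 8, 9], [12, 12, 14, 14, 14, 12, 12, 13], [11, 13, 11, 14, 14, 11, 14, 12, 12], [16, 16, 17, 16, 18], [15, 18, 18, 16], [18, 15, 15, 17]]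
noncomputable def c : List Lvl := [⟨(nat_lit 82), [[(nat_lit 1)],
  [(nat_lit 3)],
  [(nat_lit 5)]], (nat_lit 5)⟩,
  ⟨(nat_lit 99), [[(nat_lit 7)],
  [(nat_lit 9)]], (nat_lit 7)⟩,
  ⟨(nat_lit 14), [[(nat_lit 11)],
  [(nat_lit 13)]], (nat_lit 6)⟩,
  ⟨(nat_lit 36), [[(nat_lit 15)],
  [(nat_lit 17)]], (nat_lit 3)⟩,
  ⟨(nat_lit 65), [[(nat_lit 19)],
  [(nat_lit 21)],
  [(nat_lit 23)]], (nat_lit 1)⟩]
noncomputable def cz : List Lvl := [⟨(nat_lit 66), [[(nat_lit 3)],
  [(nat_lit 5), (nat_lit 13), (nat_lit 18), (nat_lit 8), (nat_lit 16), (nat_lit 16), (nat_lit 11), (nat_lit 15), (nat_lit 23), (nat_lit 19)]], (nat_lit 4)⟩]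
noncomputable def Ts : List (List (List Nat)) := [[[], [1], [2], [2, 2], [1, 1], [3], [4], [3, 2], [1, 4], [1, 3], [2, 4], [1, 4, 1], [1, 1, 3], [2, 2, 4], [3, 2, 2], [4, 4], [3, 3], [4, 4, 2], [4, 4, 1], [3, 3, 1], [3, 2, 3], [1, 4, 1, 4], [1, 1, 3, 3], [3, 2, 3, 2], [4, 4, 2, 2]]]
noncomputable def T1 : Tr := (.op 5 0 (.focus 0 (.cons [] 0 11 (.base (nat_lit 0xbfbdbdf7ea7dffeddb9eefeae) (.focus 0 (.sym [[1]] (.cons [] 10 1 (.op 4 0 (.focus 0 (.cons [] 0 1 (.op 4 0 (.op 4 0 (.focus 0 (.cons [] 0 1 (.op 7 5 (.op 7 0 (.focus 0 (.cons [] 0 1 .triv .nil)))) .nil)))) .nil))) (.cons [1] 10 0 (.base (nat_lit 0x3ab9bdb4607defedcb9eedc28) (.op 4 1 (.op 4 0 (.and 2 0 (.dead0 0))))) (.cons [2] 10 0 (.base (nat_lit 0x3ab9bdb4607defedcb9eedc28) (.op 7 0 (.and 1 0 (.op 4 2 (.op 4 0 (.and 2 0 (.dead 0))))))) (.cons [11, 1] 10 0 (.base (nat_lit 0x3ab9bdb4607defedcb9eedc28) (.op 4 1 (.op 4 0 (.and 2 0 (.dead0 0))))) (.cons [6, 2] 10 0 (.base (nat_lit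 0x3ab9bdb4607defedcb9eedc28) (.op 4 1 (.and 1 0 (.dead0 0)))) (.cons [1, 4] 10 0 (.base (nat_lit 0x3ab9bdb4607defedcb9eedc28) (.op 4 1 (.and 1 0 (.dead0 0)))) (.cons [15, 4] 10 0 (.base (nat_lit 0x3ab9bdb4607defedcb9eedc28) (.op 4 1 (.op 4 0 (.op 4 0 (.op 4 0 (.and 4 0 (.dead0 0))))))) .nil)))))))))) .nil)))
noncomputable def T1K : List (List Nat) := [[1]]
noncomputable def T1F : List (List Nat) := [[], [1]]
noncomputable def T2 : Tr := (.op 5 0 (.focus 0 (.sym [[1], [3]] (.cons [] 4 5 (.focus 1 (.base (nat_lit 0xbfbdbdf7ea7dffeddb9eefeae) (.focus 0 (.cons [] 0 5 (.base (nat_lit 0x3ab9bdb4607defedcb9eedc28) (.focus 0 (.sym [[1]] (.cons [] 4 1 (.op 4 0 (.focus 0 (.cons [] 0 1 (.op 4 0 (.focus 0 (.cons [] 0 1 .triv .nil))) .nil))) (.cons [4] 4 0 (.base (nat_lit 0x3818800000480021080400000) (.op 4 1 (.and 1 0 (.dead0 0)))) (.cons [3] 4 0 (.base (nat_lit 0x3818800000480021080400000) (.op 4 1 (.and 1 0 (.dead0 0)))) (.cons [1] 4 0 (.base (nat_lit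 0x3818800000480021080400000) (.op 4 1 (.and 1 0 (.dead0 0)))) (.cons [1, 1] 4 0 (.base (nat_lit 0x10006000010) (.and 0 6 (.dead0 0))) (.cons [9, 1] 4 0 (.base (nat_lit 0x3818800000480021080400000) (.op 4 1 (.and 1 0 (.dead0 0)))) (.cons [1, 3] 4 0 (.base (nat_lit 0x3818800000480021080400000) (.op 4 1 (.and 1 0 (.dead0 0)))) (.cons [13, 2] 4 0 (.base (nat_lit 0x3818800000480021080400000) (.op 4 1 (.and 1 0 (.dead0 0)))) (.cons [3, 1] 4 0 (.base (nat_lit 0x3818800000480021080400000) (.op 4 1 (.and 1 0 (.dead0 0)))) (.cons [13, 1] 4 0 (.base (nat_lit 0x3818800000480021080400000) (.op 4 1 (.and 1 0 (.dead0 0)))) (.cons [5, 4] 4 0 (.base (nat_lit 0x3818800000480021080400000) (.op 4 1 (.and 1 0 (.dead0 0)))) (.cons [2, 4, 4] 4 0 (.base (nat_lit 0x3818800000480021080400000) (.op 4 1 (.and 1 0 (.dead0 0)))) .nil))))))))))))))) (.cons [7, 12, 2] 0 0 (.base (nat_lit 0x3ab9bdb4607defedcb9eedc28) (.focus 0 (.sym [[1]] (.cons [] 4 0 (.op 4 0 (.focus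 0 (.cons [3] 0 0 (.op 4 0 (.focus 0 (.cons [5] 0 0 (.base (nat_lit 4) (.and 0 10 (.dead0 0))) .nil))) .nil))) (.cons [1] 4 0 (.base (nat_lit 0x3818800000480021080400000) (.op 4 1 (.and 1 0 (.dead0 0)))) (.cons [4] 4 0 (.base (nat_lit 0x3818800000480021080400000) (.op 4 1 (.and 1 0 (.dead0 0)))) (.cons [2] 4 0 (.base (nat_lit 0x3818800000480021080400000) (.op 4 1 (.and 1 0 (.dead0 0)))) (.cons [5, 4] 4 0 (.base (nat_lit 0x3818800000480021080400000) (.op 4 1 (.and 1 0 (.dead0 0)))) (.cons [6, 4] 4 0 (.base (nat_lit 0x3818800000480021080400000) (.op 4 1 (.and 1 0 (.dead0 0)))) (.cons [3, 1] 4 0 (.base (nat_lit 0x3818800000480021080400000) (.op 4 1 (.and 1 0 (.dead0 0)))) (.cons [13, 2] 4 0 (.base (nat_lit 0x3818800000480021080400000) (.op 4 1 (.and 1 0 (.dead0 0)))) (.cons [11, 3] 4 0 (.base (nat_lit 0x3818800000480021080400000) (.op 4 1 (.and 1 0 (.dead0 0)))) (.cons [9, 2] 4 0 (.base (nat_lit 0x3818800000480021080400000) (.op 4 1 (.and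 1 0 (.dead0 0)))) (.cons [4, 2] 4 0 (.base (nat_lit 0x3818800000480021080400000) (.op 4 1 (.and 1 0 (.dead0 0)))) (.cons [2, 2] 4 0 (.base (nat_lit 0x10006000010) (.and 0 6 (.dead0 0))) .nil))))))))))))))) .nil))))) .nil))))
noncomputable def T2K : List (List Nat) := [[3], [5, 13, 18, 8, 16, 16, 11, 15, 23, 19]]
noncomputable def T2F : List (List Nat) := [[], [1]]
noncomputable def rels : List (List Nat × List Nat) := [(wpow [0, 0, 2, 2] 3, []), (wpow [0, 2] 8, []), (wpow [0, 0, 2] 7, [])]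
noncomputable def π : Net := (Net.cons (nat_lit 1) (nat_lit 0x4010040410145054510104) (Net.cons (nat_lit 2) (nat_lit 0x2112100101322113000201200) (Net.cons (nat_lit 4) (nat_lit 0xa0e090d06070201090f0104) (Net.cons (nat_lit 8) (nat_lit 0xcb003100b0001b00440002) (Net.cons (nat_lit 16) (nat_lit 0x3c5b0000682300000000) (Net.cons (nat_lit 32) (nat_lit 0xf00000000002a2c10) (Net.cons (nat_lit 64) (nat_lit 0x56aabbe7a) (Net.cons (nat_lit 32) (nat_lit 0xa000000000354fe94) (Net.cons (nat_lit 16) (nat_lit 0x4afd0000c92d00006070) (Net.cons (nat_lit 8) (nat_lit 0xb7002a001700a1009a00a8) (Net.cons (nat_lit 4) (nat_lit 0x1000f060905030f000d0c09) (Net.cons (nat_lit 2) (nat_lit 0x1200132223233003333220102) (Net.cons (nat_lit 1) (nat_lit 0x1501110011414054500010544) Net.nil)))))))))))))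
noncomputable def y : List Nat := [17, 1, 5, 9, 17, 10, 19, 11, 18, 19]
noncomputable def pts : List Nat := [31]

end CF.Bt.OutHS
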