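import Cfsg.Agent.Bt.Defs

set_option autoImplicit false
set_option maxRecDepth 1000000

namespace CF.Bt.OutJ2

open CF.Comp

noncomputable def X_0 : Net := (Net.cons (nat_lit 1) (nat_lit 0x4405104150414110551510104) (Net.cons (nat_lit 2) (nat_lit 0x121002222333103012232110) (Net.cons (nat_lit 4) (nat_lit 0x10103080403050e04010100) (Net.cons (nat_lit 8) (nat_lit 0xa500b500ab002000990000) (Net.cons (nat_lit 16) (nat_lit 0xc28f0000a30c00000008) (Net.cons (nat_lit 32) (nat_lit 0x20000000034210220) (Net.cons (nat_lit 64) (nat_lit 0x874f9daa2) (Net.cons (nat_lit 32) (nat_lit 0x4000000006444adb8) (Net.cons (nat_lit 16) (nat_lit 0xe37b0000e660000031f9) (Net.cons (nat_lit 8) (nat_lit 0xed0059008c00f1007c00e2) (Net.cons (nat_lit 4) (nat_lit 0xc0a01020d03090302070f03) (Net.cons (nat_lit 2) (nat_lit 0x32332021011231210021010) (Net.cons (nat_lit 1) (nat_lit 0x1545451555504014410445114) Net.nil)))))))))))))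
noncomputable def X_1 : Net := (Net.cons (nat_lit 1) (nat_lit 0x145410441115104554004414) (Net.cons (nat_lit 2) (nat_lit 0x320110110101301010310100) (Net.cons (nat_lit 4) (nat_lit 0x40c04080f07050002010208) (Net.cons (nat_lit 8) (nat_lit 0x9700b000f7005100290007) (Net.cons (nat_lit 16) (nat_lit 0x2ef9000004d600000002) (Net.cons (nat_lit 32) (nat_lit 2694121216) (Net.cons (nat_lit 64) (nat_lit 0xbacdd073e) (Net.cons (nat_lit 32) (nat_lit 0x400000000ff8442fa) (Net.cons (nat_lit 16) (nat_lit 0xe49800007ce7000019b4) (Net.cons (nat_lit 8) (nat_lit 0x3c008b001d004b00de00fa) (Net.cons (nat_lit 4) (nat_lit 0x80208000b02080d0a0f0101) (Net.cons (nat_lit 2) (nat_lit 0x1101201302002133333202303) (Net.cons (nat_lit 1) (nat_lit 0x140504111015451444155514) Net.nil)))))))))))))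
noncomputable def X_2 : Net := (Net.cons (nat_lit 1) (nat_lit 0x411001544554041141050044) (Net.cons (nat_lit 2) (nat_lit 0x2030002212212011200230130) (Net.cons (nat_lit 4) (nat_lit 0x4000601010b0f0e05010508) (Net.cons (nat_lit 8) (nat_lit 0xc3006b0042004a00200008) (Net.cons (nat_lit 16) (nat_lit 0xa0230000100300000000) (Net.cons (nat_lit 32) (nat_lit 0x600000000021050e0) (Net.cons (nat_lit 64) (nat_lit 0x18373f0fe) (Net.cons (nat_lit 32) (nat_lit 0xa000000004994efa3) (Net.cons (nat_lit 16) (nat_lit 0x10630000203300001020) (Net.cons (nat_lit 8) (nat_lit 0x30077005d006500ec00d4) (Net.cons (nat_lit 4) (nat_lit 0x800090202070f0d0a020a04) (Net.cons (nat_lit 2) (nat_lit 0x1030001121121023100132230) (Net.cons (nat_lit 1) (nat_lit 0x5144554011001514414505511) Net.nil)))))))))))))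
noncomputable def X : List Net := [X_0, X_1, X_2]
noncomputable def X1_0 : Net := (Net.cons (nat_lit 1) (nat_lit 0x1440551444450415555555100) (Net.cons (nat_lit 2) (nat_lit 0x1121101201103101003232030) (Net.cons (nat_lit 4) (nat_lit 0xa080a0601060a020f06020a) (Net.cons (nat_lit 8) (nat_lit 0x75001700a8004f00840008) (Net.cons (nat_lit 16) (nat_lit 0xbea80000c8450000000d) (Net.cons (nat_lit 32) (nat_lit 0x70000000089aa1400) (Net.cons (nat_lit 64) (nat_lit 0xbebaf3e1c) (Net.cons (nat_lit 32) (nat_lit 0x40000000005e27a2c) (Net.cons (nat_lit 16) (nat_lit 0xeb50000b81c0000d828) (Net.cons (nat_lit 8) (nat_lit 0xdb00a1007e00d100500018) (Net.cons (nat_lit 4) (nat_lit 0x40e0c0d0a0d0900080f0f0b) (Net.cons (nat_lit 2) (nat_lit 0x1232030123322111020313300) (Net.cons (nat_lit 1) (nat_lit 0x11054014501040411510501) Net.nil)))))))))))))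
noncomputable def X1_1 : Net := (Net.cons (nat_lit 1) (nat_lit 0x1504014000101454045145014) (Net.cons (nat_lit 2) (nat_lit 0x313321131031301332221030) (Net.cons (nat_lit 4) (nat_lit 0xf0f07030b09000504070b0a) (Net.cons (nat_lit 8) (nat_lit 0x4300cf001b00660064000a) (Net.cons (nat_lit 16) (nat_lit 0xa29600005e1a00000005) (Net.cons (nat_lit 32) (nat_lit 0x30000000068161320) (Net.cons (nat_lit 64) (nat_lit 0xdefde7bb6) (Net.cons (nat_lit 32) (nat_lit 0xe00000000cb36e5eb) (Net.cons (nat_lit 16) (nat_lit 0xa0d0000dd370000d7ff) (Net.cons (nat_lit 8) (nat_lit 0x540021002300fe00750091) (Net.cons (nat_lit 4) (nat_lit 0xd0c0f090a0f000107000d03) (Net.cons (nat_lit 2) (nat_lit 0x3221302001333303110100) (Net.cons (nat_lit 1) (nat_lit 0x1010051444040055010555054) Net.nil)))))))))))))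
noncomputable def X1_2 : Net := (Net.cons (nat_lit 1) (nat_lit 0x1505405550454154041045500) (Net.cons (nat_lit 2) (nat_lit 0x1112321120303321202203200) (Net.cons (nat_lit 4) (nat_lit 0xa0308070608040c0c050a0c) (Net.cons (nat_lit 8) (nat_lit 0xf4006a00fc006200270009) (Net.cons (nat_lit 16) (nat_lit 0xcc2b0000800a00000006) (Net.cons (nat_lit 32) (nat_lit 0xa00000000cc906800) (Net.cons (nat_lit 64) (nat_lit 0x6dffdfe4c) (Net.cons (nat_lit 32) (nat_lit 0xd00000000e8a6057c) (Net.cons (nat_lit 16) (nat_lit 0xb100000d57f0000073c) (Net.cons (nat_lit 8) (nat_lit 0x610099003100490091005d) (Net.cons (nat_lit 4) (nat_lit 0x70e020806000302020b0c08) (Net.cons (nat_lit 2) (nat_lit 0x3030330130331030220201301) (Net.cons (nat_lit 1) (nat_lit 0x4104545411550554404104410) Net.nil)))))))))))))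
noncomputable def X1_3 : Net := (Net.cons (nat_lit 1) (nat_lit 0x40045401041011004444554) (Net.cons (nat_lit 2) (nat_lit 0x13211002331032233203200) (Net.cons (nat_lit 4) (nat_lit 0x90f0b020a0b090907070902) (Net.cons (nat_lit 8) (nat_lit 0x800008000200280000000a) (Net.cons (nat_lit 16) (nat_lit 0x9780000042600000002) (Net.cons (nat_lit 32) (nat_lit 0x2000000002b5c0720) (Net.cons (nat_lit 64) (nat_lit 0xfbf5e1729) (Net.cons (nat_lit 32) (nat_lit 0x8000000000be4dcfb) (Net.cons (nat_lit 16) (nat_lit 0x1b7b00006ca20000d8fb) (Net.cons (nat_lit 8) (nat_lit 0x26002e00aa006c00f80018) (Net.cons (nat_lit 4) (nat_lit 0x40c090b0b060d0b0802020a) (Net.cons (nat_lit 2) (nat_lit 0x1023202230111212033132122) (Net.cons (nat_lit 1) (nat_lit 0x5041140405110014510404054) Net.nil)))))))))))))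
noncomputable def X1_4 : Net := (Net.cons (nat_lit 1) (nat_lit 0x5401114454104541005011450) (Net.cons (nat_lit 2) (nat_lit 0x213210331210332231000130) (Net.cons (nat_lit 4) (nat_lit 0x607010204090f060c020008) (Net.cons (nat_lit 8) (nat_lit 0xe70002001900820014000a) (Net.cons (nat_lit 16) (nat_lit 0x2db000013680000000d) (Net.cons (nat_lit 32) (nat_lit 0x40000000023c33030) (Net.cons (nat_lit 64) (nat_lit 0xab7c73374) (Net.cons (nat_lit 32) (nat_lit 0xd000000000177cb2b) (Net.cons (nat_lit 16) (nat_lit 0x2eb0000c67c00002224) (Net.cons (nat_lit 8) (nat_lit 0xd200ad001500ea00b00008) (Net.cons (nat_lit 4) (nat_lit 0x1050c03050208050d030809) (Net.cons (nat_lit 2) (nat_lit 0x3200020113333332233022030) (Net.cons (nat_lit 1) (nat_lit 0x5011105141005100445004510) Net.nil)))))))))))))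
noncomputable def X1 : List Net := [X1_0, X1_1, X1_2, X1_3, X1_4]
noncomputable def ws : List (List Nat) := [[9, 7, 11, 4, 10, 8, 6, 9, 5, 7, 9, 4, 10, 8, 6, 10, 14, 9, 5, 7, 9, 3, 1], [4, 10, 7, 4, 8, 9, 11, 7, 6, 2, 9, 5, 4, 10, 8, 6, 9, 5, 7, 9, 1, 4, 10, 8, 6, 14, 9, 5, 7, 9, 3, 1, 10, 8, 6, 14, 9, 5, 7, 9, 1], [10, 7, 10, 5, 4, 6, 2, 9, 5, 8, 9, 11, 7, 2, 10, 8, 6, 10, 5, 7, 9, 2, 4, 10, 8, 6, 10, 14, 9, 5, 7, 9, 3, 1]]
noncomputable def W : List (List Nat) := [[6, 2, 6, 1, 6, 2, 5, 2, 2, 5], [4, 1, 3], [8, 9, 9, 7, 9, 8, 8], [7, 10, 8, 8, 9, 8, 9, 8], [13, 11, 13, 13, 11]]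
noncomputable def c : List Lvl := [⟨(nat_lit 3), [[(nat_lit 1)],
  [(nat_lit 3)],
  [(nat_lit 5)]], (nat_lit 4)⟩,
  ⟨(nat_lit 82), [[(nat_lit 7)],
  [(nat_lit 9)]], (nat_lit 6)⟩,
  ⟨(nat_lit 41), [[(nat_lit 11)],
  [(nat_lit 13)]], (nat_lit 5)⟩,
  ⟨(nat_lit 64), [[(nat_lit 15)]], (nat_lit 2)⟩]
noncomputable def cz : List Lvl := [⟨(nat_lit 39), [[(nat_lit 3)],
  [(nat_lit 5), (nat_lit 13), (nat_lit 8), (nat_lit 11), (nat_lit 14)]], (nat_lit 5)⟩]
noncomputable def Ts : List (List (List Nat)) := [[[], [2], [1], [2, 2], [1, 1], [2, 2, 2], [4], [2, 4], [1, 4], [2, 2, 4], [1, 1, 4], [2, 2, 4, 2]]]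
noncomputable def T1 : Tr := (.op 5 0 (.focus 0 (.cons [] 0 7 (.base (nat_lit 0xfb9cf8e33d719f5f67ebcff0) (.focus 0 (.sym [[1]] (.cons [] 6 1 (.op 4 0 (.focus 0 (.cons [] 0 1 (.base (nat_lit 0x28010000000000000000) (.focus 0 (.base (nat_lit 0x8000000800000144000040) (.op 7 0 (.op 7 0 (.focus 0 (.cons [] 0 1 .triv .nil))))))) .nil))) (.cons [2] 6 0 (.base (nat_lit 0xeb0090a03411134e236880b0) (.op 4 1 (.and 1 0 (.dead0 0)))) (.cons [1] 6 0 (.base (nat_lit 0xeb0090a03411134e236880b0) (.op 4 1 (.and 1 0 (.dead0 0)))) (.cons [7, 2] 6 0 (.base (nat_lit 0xeb0090a03411134e236880b0) (.op 4 1 (.and 1 0 (.dead0 0)))) (.cons [9, 4] 6 0 (.base (nat_lit 0xeb0090a03411134e236880b0) (.op 4 1 (.op 4 0 (.op 4 0 (.and 3 0 (.dead0 0)))))) (.cons [1, 4] 6 0 (.base (nat_lit 0x8000000800000144000040) (.op 4 1 (.op 4 0 (.and 2 0 (.dead0 0))))) (.cons [5, 1] 6 0 (.base (nat_lit 0xeb0090a03411134e236880b0) (.op 4 1 (.and 1 0 (.dead0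 0)))) (.cons [8, 1] 6 0 (.base (nat_lit 0xeb0090a03411134e236880b0) (.op 4 1 (.and 1 0 (.dead0 0)))) (.cons [9, 3] 6 0 (.base (nat_lit 0xeb0090a03411134e236880b0) (.op 4 1 (.op 4 0 (.and 2 0 (.dead0 0))))) .nil)))))))))))) (.cons [3] 0 0 (.base (nat_lit 0xfb9cf8e33d719f5f67ebcff0) (.focus 0 (.sym [[1]] (.cons [] 6 0 (.base (nat_lit 0xeb0090a03411134e236880b0) (.op 4 1 (.and 1 0 (.dead0 0)))) (.cons [2] 6 0 (.op 4 0 (.focus 0 (.cons [1, 4, 2] 0 0 (.base (nat_lit 0x4000000008000000000004) (.and 0 6 (.dead0 0))) .nil))) (.cons [1] 6 0 (.base (nat_lit 0xeb0090a03411134e236880b0) (.op 4 1 (.and 1 0 (.dead0 0)))) (.cons [1, 4] 6 0 (.base (nat_lit 0xeb0090a03411134e236880b0) (.op 4 1 (.and 1 0 (.dead0 0)))) (.cons [9, 3] 6 0 (.base (nat_lit 0xeb0090a03411134e236880b0) (.op 4 1 (.op 4 0 (.op 4 0 (.and 3 0 (.dead0 0)))))) (.cons [5, 3] 6 0 (.base (nat_lit 0x8000000800000144000040) (.op 4 1 (.op 4 0 (.and 2 0 (.dead0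 0))))) (.cons [6, 2] 6 0 (.base (nat_lit 0xeb0090a03411134e236880b0) (.op 4 1 (.and 1 0 (.dead0 0)))) (.cons [10, 3] 6 0 (.base (nat_lit 0xeb0090a03411134e236880b0) (.op 4 1 (.and 1 0 (.dead0 0)))) (.cons [2, 2] 6 0 (.base (nat_lit 0xeb0090a03411134e236880b0) (.op 4 1 (.op 4 0 (.and 2 0 (.dead0 0))))) .nil)))))))))))) .nil))))
noncomputable def T1K : List (List Nat) := [[1]]
noncomputable def T1F : List (List Nat) := [[], [1]]
noncomputable def T2 : Tr := (.sym [[1], [3]] (.cons [] 1 3 (.base (nat_lit 0xfb9cf8e33d719f5f67ebcff0) (.focus 0 (.op 4 0 (.focus 0 (.sym [[5]] (.cons [] 2 1 (.base (nat_lit 0xeb0090a03411134e236880b0) (.focus 0 (.base (nat_lit 0x1018684301608c1000834f00) (.op 4 0 (.focus 0 (.op 7 1 (.focus 0 (.op 7 3 (.op 7 0 (.focus 0 (.cons [] 0 1 (.focus 5 (.op 4 0 (.focus 0 (.cons [] 0 1 .triv .nil)))) (.cons [2, 4, 4] 0 0 (.base (nat_lit 0x28010000000000000000) (.op 4 1 (.and 1 0 (.dead0 0))))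 (.cons [5, 4, 4] 0 0 (.base (nat_lit 0x28010000000000000000) (.op 4 1 (.and 1 0 (.dead0 0)))) .nil))))))))))))) (.cons [3] 2 0 (.base (nat_lit 0xeb0090a03411134e236880b0) (.op 7 1 (.and 1 0 (.dead0 0)))) (.cons [4] 2 0 (.base (nat_lit 0xeb0090a03411134e236880b0) (.op 4 1 (.and 1 0 (.dead0 0)))) (.cons [7, 2] 2 0 (.base (nat_lit 0xeb0090a03411134e236880b0) (.op 4 1 (.and 1 0 (.dead0 0)))) (.cons [9, 4] 2 0 (.base (nat_lit 0xeb0090a03411134e236880b0) (.op 4 1 (.and 1 0 (.dead0 0)))) (.cons [4, 2] 2 0 (.base (nat_lit 0xeb0090a03411134e236880b0) (.op 7 1 (.and 1 0 (.dead0 0)))) (.cons [2, 2] 2 0 (.base (nat_lit 0xeb0090a03411134e236880b0) (.op 4 1 (.and 1 0 (.dead0 0)))) (.cons [4, 4] 2 0 (.base (nat_lit 0xeb0090a03411134e236880b0) (.op 4 1 (.and 1 0 (.dead0 0)))) (.cons [10, 3] 2 0 (.base (nat_lit 0xeb0090a03411134e236880b0) (.op 4 1 (.and 1 0 (.dead0 0)))) (.cons [3, 3] 2 0 (.base (nat_lit 0xeb0090a03411134e236880b0)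 (.op 7 1 (.and 1 0 (.dead0 0)))) (.cons [3, 2] 2 0 (.base (nat_lit 0xeb0090a03411134e236880b0) (.focus 0 (.op 4 0 (.op 4 0 (.focus 0 (.op 7 2 (.op 7 0 (.focus 0 (.base (nat_lit 0x1018684301608c1000834f00) (.op 4 0 (.focus 0 (.cons [2, 2] 0 0 (.base (nat_lit 0x28010000000000000000) (.op 4 1 (.and 1 0 (.dead0 0)))) (.cons [1, 4, 2] 0 0 (.base (nat_lit 4194304) (.op 4 9 (.op 4 0 (.and 2 0 (.dead0 0))))) (.cons [2, 4, 4] 0 0 (.base (nat_lit 0x28010000000000000000) (.op 4 1 (.and 1 0 (.dead0 0)))) .nil)))))))))))))) (.cons [4, 10, 3] 2 0 (.base (nat_lit 0xeb0090a03411134e236880b0) (.op 7 1 (.and 1 0 (.dead0 0)))) (.cons [4, 7, 2] 2 0 (.base (nat_lit 0xeb0090a03411134e236880b0) (.op 7 1 (.and 1 0 (.dead0 0)))) (.cons [3, 9, 3] 2 0 (.base (nat_lit 0xeb0090a03411134e236880b0) (.op 7 1 (.and 1 0 (.dead0 0)))) .nil))))))))))))))))))) (.cons [8, 5] 5 0 (.op 8 0 (.and 1 0 (.dead0 0))) (.cons [13, 3] 5 0 (.op 8 0 (.and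 1 0 (.dead0 0))) (.cons [15, 5] 5 0 (.op 8 0 (.and 1 0 (.dead0 0))) (.cons [7, 3] 5 0 (.op 8 0 (.and 1 0 (.dead0 0))) (.cons [10, 5] 5 0 (.op 8 0 (.and 1 0 (.dead0 0))) (.cons [1, 8, 5] 5 0 (.op 8 0 (.and 1 0 (.dead0 0))) (.cons [16, 5, 7, 3] 5 0 (.op 8 0 (.and 1 0 (.dead0 0))) (.cons [8, 5, 10, 5] 5 0 (.op 8 0 (.and 1 0 (.dead0 0))) .nil))))))))))
noncomputable def T2K : List (List Nat) := [[3], [5, 13, 8, 11, 14], [3, 3]]
noncomputable def T2F : List (List Nat) := [[], [1], [1, 1], [1, 1, 1]]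
noncomputable def rels : List (List Nat × List Nat) := [(wpow [0, 1, 2] 7, []), (wpow [0, 0, 0, 2] 7, [])]
noncomputable def π : Net := (Net.cons (nat_lit 1) (nat_lit 0x5415155141040440541104400) (Net.cons (nat_lit 2) (nat_lit 0x3232220200021002010202200) (Net.cons (nat_lit 4) (nat_lit 0x6000f02030a010100040001) (Net.cons (nat_lit 8) (nat_lit 0x2100bb0021009300210004) (Net.cons (nat_lit 16) (nat_lit 0x912b0000bc950000000c) (Net.cons (nat_lit 32) (nat_lit 0x20000000059090610) (Net.cons (nat_lit 64) (nat_lit 0xf5909e7f4) (Net.cons (nat_lit 32) (nat_lit 0x600000000dd277c84) (Net.cons (nat_lit 16) (nat_lit 0x932900008e950000000d) (Net.cons (nat_lit 8) (nat_lit 0x2300ad0017008000130014) (Net.cons (nat_lit 4) (nat_lit 0x60c060101010200020e0209) (Net.cons (nat_lit 2) (nat_lit 0x3332221200021102010213200) (Net.cons (nat_lit 1) (nat_lit 0x5415155141040444541104400) Net.nil)))))))))))))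
noncomputable def y : List Nat := [5, 3, 8, 14, 14]
noncomputable def pts : List Nat := [53]

end CF.Bt.OutJ2
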