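import Cfsg.Agent.Bt.Defs

set_option autoImplicit false
set_option maxRecDepth 1000000

namespace CF.Bt.OutM12

open CF.Comp

noncomputable def X_0 : Net := (Net.cons (nat_lit 1) (nat_lit 4260928) (Net.cons (nat_lit 2) (nat_lit 2097184) (Net.cons (nat_lit 4) (nat_lit 131072) (Net.cons (nat_lit 8) (nat_lit 164) (Net.cons (nat_lit 16) (nat_lit 229) (Net.cons (nat_lit 8) (nat_lit 101) (Net.cons (nat_lit 4) (nat_lit 393730) (Net.cons (nat_lit 2) (nat_lit 2228497) (Net.cons (nat_lit 1) (nat_lit 5505045) Net.nil)))))))))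
noncomputable def X_1 : Net := (Net.cons (nat_lit 1) (nat_lit 4276544) (Net.cons (nat_lit 2) (nat_lit 3146016) (Net.cons (nat_lit 4) (nat_lit 397056) (Net.cons (nat_lit 8) (nat_lit 60) (Net.cons (nat_lit 16) (nat_lit 188) (Net.cons (nat_lit 8) (nat_lit 110) (Net.cons (nat_lit 4) (nat_lit 986374) (Net.cons (nat_lit 2) (nat_lit 2293760) (Net.cons (nat_lit 1) (nat_lit 4472852) Net.nil)))))))))
noncomputable def X_2 : Net := (Net.cons (nat_lit 1) (nat_lit 1314884) (Net.cons (nat_lit 2) (nat_lit 2162688) (Net.cons (nat_lit 4) (nat_lit 2304) (Net.cons (nat_lit 8) (nat_lit 128) (Net.cons (nat_lit 16) (nat_lit 204) (Net.cons (nat_lit 8) (nat_lit 97) (Net.cons (nat_lit 4) (nat_lit 197891) (Net.cons (nat_lit 2) (nat_lit 1187856) (Net.cons (nat_lit 1) (nat_lit 4277521) Net.nil)))))))))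
noncomputable def X : List Net := [X_0, X_1, X_2]
noncomputable def X1_0 : Net := (Net.cons (nat_lit 1) (nat_lit 1070144) (Net.cons (nat_lit 2) (nat_lit 2236416) (Net.cons (nat_lit 4) (nat_lit 851968) (Net.cons (nat_lit 16) (nat_lit 88) (Net.cons (nat_lit 8) (nat_lit 185) (Net.cons (nat_lit 4) (nat_lit 65544) (Net.cons (nat_lit 2) (nat_lit 2105347) (Net.cons (nat_lit 1) (nat_lit 4474112) Net.nil))))))))
noncomputable def X1_1 : Net := (Net.cons (nat_lit 1) (nat_lit 4527360) (Net.cons (nat_lit 2) (nat_lit 3346448) (Net.cons (nat_lit 8) (nat_lit 25) (Net.cons (nat_lit 16) (nat_lit 185) (Net.cons (nat_lit 8) (nat_lit 97) (Net.cons (nat_lit 4) (nat_lit 262916) (Net.cons (nat_lit 2) (nat_lit 135728) (Net.cons (nat_lit 1) (nat_lit 1328193) Net.nil))))))))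
noncomputable def X1_2 : Net := (Net.cons (nat_lit 1) (nat_lit 1311824) (Net.cons (nat_lit 2) (nat_lit 2236448) (Net.cons (nat_lit 4) (nat_lit 591616) (Net.cons (nat_lit 8) (nat_lit 140) (Net.cons (nat_lit 16) (nat_lit 220) (Net.cons (nat_lit 8) (nat_lit 45) (Net.cons (nat_lit 4) (nat_lit 526083) (Net.cons (nat_lit 2) (nat_lit 2170898) (Net.cons (nat_lit 1) (nat_lit 1398036) Net.nil)))))))))
noncomputable def X1_3 : Net := (Net.cons (nat_lit 1) (nat_lit 262208) (Net.cons (nat_lit 2) (nat_lit 1061632) (Net.cons (nat_lit 4) (nat_lit 788480) (Net.cons (nat_lit 8) (nat_lit 49) (Net.cons (nat_lit 16) (nat_lit 245) (Net.cons (nat_lit 8) (nat_lit 181) (Net.cons (nat_lit 4) (nat_lit 722952) (Net.cons (nat_lit 2) (nat_lit 1192497) (Net.cons (nat_lit 1) (nat_lit 1114385) Net.nil)))))))))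
noncomputable def X1_4 : Net := (Net.cons (nat_lit 1) (nat_lit 5325824) (Net.cons (nat_lit 2) (nat_lit 256) (Net.cons (nat_lit 4) (nat_lit 527360) (Net.cons (nat_lit 8) (nat_lit 30) (Net.cons (nat_lit 16) (nat_lit 30) (Net.cons (nat_lit 8) (nat_lit 220) (Net.cons (nat_lit 4) (nat_lit 590337) (Net.cons (nat_lit 2) (nat_lit 135440) (Net.cons (nat_lit 1) (nat_lit 5522693) Net.nil)))))))))
noncomputable def X1_5 : Net := (Net.cons (nat_lit 1) (nat_lit 262164) (Net.cons (nat_lit 2) (nat_lit 3342592) (Net.cons (nat_lit 4) (nat_lit 655616) (Net.cons (nat_lit 8) (nat_lit 212) (Net.cons (nat_lit 16) (nat_lit 244) (Net.cons (nat_lit 8) (nat_lit 215) (Net.cons (nat_lit 4) (nat_lit 132614) (Net.cons (nat_lit 2) (nat_lit 3149826) (Net.cons (nat_lit 1) (nat_lit 1134613) Net.nil)))))))))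
noncomputable def X1_6 : Net := (Net.cons (nat_lit 1) (nat_lit 1310724) (Net.cons (nat_lit 2) (nat_lit 140064) (Net.cons (nat_lit 4) (nat_lit 328704) (Net.cons (nat_lit 8) (nat_lit 36) (Net.cons (nat_lit 16) (nat_lit 54) (Net.cons (nat_lit 8) (nat_lit 76) (Net.cons (nat_lit 4) (nat_lit 67844) (Net.cons (nat_lit 2) (nat_lit 143905) (Net.cons (nat_lit 1) (nat_lit 266240) Net.nil)))))))))
noncomputable def X1_7 : Net := (Net.cons (nat_lit 1) (nat_lit 17424) (Net.cons (nat_lit 2) (nat_lit 2101248) (Net.cons (nat_lit 4) (nat_lit 527360) (Net.cons (nat_lit 8) (nat_lit 144) (Net.cons (nat_lit 16) (nat_lit 144) (Net.cons (nat_lit 8) (nat_lit 21) (Net.cons (nat_lit 4) (nat_lit 3590) (Net.cons (nat_lit 2) (nat_lit 3215361) (Net.cons (nat_lit 1) (nat_lit 5396) Net.nil)))))))))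
noncomputable def X1 : List Net := [X1_0, X1_1, X1_2, X1_3, X1_4, X1_5, X1_6, X1_7]
noncomputable def ws : List (List Nat) := [[2, 7, 6, 12, 16, 18], [14, 5, 10, 13], [8, 1, 9, 6]]
noncomputable def W : List (List Nat) := [[2, 3, 5, 5, 3, 1, 5, 2], [2, 5, 1, 4, 2], [10, 8, 10, 10], [7, 10, 10, 8, 9, 9], [11, 14, 11, 11, 14], [13, 11, 11], [16, 16, 17, 15, 18, 18, 16], [16, 18, 18]]
noncomputable def c : List Lvl := [⟨(nat_lit 11), [[(nat_lit 1)],
  [(nat_lit 3)],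
  [(nat_lit 5)]], (nat_lit 3)⟩,
  ⟨(nat_lit 23), [[(nat_lit 7)],
  [(nat_lit 9)]], (nat_lit 4)⟩,
  ⟨(nat_lit 5), [[(nat_lit 11)],
  [(nat_lit 13)]], (nat_lit 3)⟩,
  ⟨(nat_lit 17), [[(nat_lit 15)],
  [(nat_lit 17)]], (nat_lit 3)⟩,
  ⟨(nat_lit 20), [[(nat_lit 19)],
  [(nat_lit 21)]], (nat_lit 2)⟩]
noncomputable def cz : List Lvl := [⟨(nat_lit 18), [[(nat_lit 3)],
  [(nat_lit 5)]], (nat_lit 4)⟩]
noncomputable def Ts : List (List (List Nat)) := [[[], [4], [1], [2], [4, 2], [1, 1], [4, 1], [2, 2], [1, 1, 4], [4, 2, 2]]]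
noncomputable def T1 : Tr := (.base (nat_lit 16436384) (.focus 0 (.sym [[1]] (.cons [] 10 1 (.op 4 0 (.focus 0 (.cons [] 0 1 (.op 4 0 (.op 4 0 (.focus 0 (.cons [] 0 1 (.op 7 5 (.op 7 0 (.focus 0 (.cons [] 0 1 (.op 4 3 (.op 4 0 (.focus 0 (.cons [] 0 1 .triv .nil)))) .nil)))) .nil)))) .nil))) (.cons [5] 0 0 (.op 5 0 (.and 1 0 (.dead0 0))) .nil)))))
noncomputable def T1K : List (List Nat) := [[1]]
noncomputable def T1F : List (List Nat) := [[], [1]]
noncomputable def T2 : Tr := (.base (nat_lit 16436384) (.focus 0 (.sym [[1], [3]] (.cons [] 1 5 (.base (nat_lit 16434336) (.focus 0 (.sym [[1]] (.cons [] 4 1 (.focus 1 (.op 4 0 (.focus 0 (.cons [] 0 1 (.focus 3 (.op 4 0 (.focus 0 (.cons [] 0 1 (.focus 5 (.op 4 0 (.focus 0 (.cons [] 0 1 .triv .nil)))) .nil)))) .nil)))) (.cons [2] 4 0 (.focus 1 (.op 4 0 (.focus 0 (.cons [3] 0 0 (.focus 3 (.op 4 0 (.focus 0 (.cons [3] 0 0 (.base (nat_lit 327698) (.op 5 0 (.and 1 0 (.dead0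 0)))) .nil)))) .nil)))) (.cons [1] 0 0 (.op 5 0 (.and 1 0 (.dead0 0))) .nil)))))) (.cons [2] 4 0 (.op 5 0 (.and 1 0 (.dead0 0))) .nil)))))
noncomputable def T2K : List (List Nat) := [[3], [5]]
noncomputable def T2F : List (List Nat) := [[], [1]]
noncomputable def rels : List (List Nat × List Nat) := [(wpow [0, 1, 2] 6, []), (wpow [0, 2] 11, [])]
noncomputable def π : Net := (Net.cons (nat_lit 1) (nat_lit 5329220) (Net.cons (nat_lit 2) (nat_lit 8192) (Net.cons (nat_lit 4) (nat_lit 395520) (Net.cons (nat_lit 8) (nat_lit 41) (Net.cons (nat_lit 16) (nat_lit 175) (Net.cons (nat_lit 8) (nat_lit 236) (Net.cons (nat_lit 4) (nat_lit 983054) (Net.cons (nat_lit 2) (nat_lit 144179) (Net.cons (nat_lit 1) (nat_lit 5526849) Net.nil)))))))))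
noncomputable def y : List Nat := [5]
noncomputable def pts : List Nat := [11]

end CF.Bt.OutM12
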