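import Cfsg.Agent.Bt.Defs

set_option autoImplicit false
set_option maxRecDepth 1000000

namespace CF.Bt.OutM22

open CF.Comp

noncomputable def X_0 : Net := (Net.cons (nat_lit 1) (nat_lit 70720) (Net.cons (nat_lit 2) (nat_lit 74272) (Net.cons (nat_lit 4) (nat_lit 327680) (Net.cons (nat_lit 8) (nat_lit 61) (Net.cons (nat_lit 16) (nat_lit 127) (Net.cons (nat_lit 8) (nat_lit 175) (Net.cons (nat_lit 4) (nat_lit 327948) (Net.cons (nat_lit 2) (nat_lit 143410) (Net.cons (nat_lit 1) (nat_lit 348436) Net.nil)))))))))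
noncomputable def X_1 : Net := (Net.cons (nat_lit 1) (nat_lit 1052992) (Net.cons (nat_lit 2) (nat_lit 8192) (Net.cons (nat_lit 4) (nat_lit 2048) (Net.cons (nat_lit 8) (nat_lit 50) (Net.cons (nat_lit 16) (nat_lit 114) (Net.cons (nat_lit 8) (nat_lit 126) (Net.cons (nat_lit 4) (nat_lit 330246) (Net.cons (nat_lit 2) (nat_lit 12322) (Net.cons (nat_lit 1) (nat_lit 1049604) Net.nil)))))))))
noncomputable def X_2 : Net := (Net.cons (nat_lit 1) (nat_lit 1048832) (Net.cons (nat_lit 2) (nat_lit 1114144) (Net.cons (nat_lit 4) (nat_lit 918784) (Net.cons (nat_lit 8) (nat_lit 193) (Net.cons (nat_lit 16) (nat_lit 245) (Net.cons (nat_lit 8) (nat_lit 45) (Net.cons (nat_lit 4) (nat_lit 983812) (Net.cons (nat_lit 2) (nat_lit 1253424) (Net.cons (nat_lit 1) (nat_lit 1310800) Net.nil)))))))))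
noncomputable def X : List Net := [X_0, X_1, X_2]
noncomputable def X1_0 : Net := (Net.cons (nat_lit 1) (nat_lit 263172) (Net.cons (nat_lit 2) (nat_lit 3277056) (Net.cons (nat_lit 4) (nat_lit 329984) (Net.cons (nat_lit 8) (nat_lit 148) (Net.cons (nat_lit 16) (nat_lit 158) (Net.cons (nat_lit 8) (nat_lit 234) (Net.cons (nat_lit 4) (nat_lit 328458) (Net.cons (nat_lit 2) (nat_lit 2102034) (Net.cons (nat_lit 1) (nat_lit 1316112) Net.nil)))))))))
noncomputable def X1_1 : Net := (Net.cons (nat_lit 1) (nat_lit 1052992) (Net.cons (nat_lit 2) (nat_lit 8192) (Net.cons (nat_lit 4) (nat_lit 2048) (Net.cons (nat_lit 8) (nat_lit 50) (Net.cons (nat_lit 16) (nat_lit 114) (Net.cons (nat_lit 8) (nat_lit 126) (Net.cons (nat_lit 4) (nat_lit 330246) (Net.cons (nat_lit 2) (nat_lit 12322) (Net.cons (nat_lit 1) (nat_lit 1049604) Net.nil)))))))))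
noncomputable def X1_2 : Net := (Net.cons (nat_lit 1) (nat_lit 4194564) (Net.cons (nat_lit 2) (nat_lit 2163216) (Net.cons (nat_lit 4) (nat_lit 133632) (Net.cons (nat_lit 8) (nat_lit 17) (Net.cons (nat_lit 16) (nat_lit 53) (Net.cons (nat_lit 8) (nat_lit 131) (Net.cons (nat_lit 4) (nat_lit 69376) (Net.cons (nat_lit 2) (nat_lit 12818) (Net.cons (nat_lit 1) (nat_lit 4215124) Net.nil)))))))))
noncomputable def X1_3 : Net := (Net.cons (nat_lit 1) (nat_lit 20740) (Net.cons (nat_lit 2) (nat_lit 3158288) (Net.cons (nat_lit 4) (nat_lit 197632) (Net.cons (nat_lit 8) (nat_lit 161) (Net.cons (nat_lit 16) (nat_lit 225) (Net.cons (nat_lit 8) (nat_lit 211) (Net.cons (nat_lit 4) (nat_lit 131598) (Net.cons (nat_lit 2) (nat_lit 2166816) (Net.cons (nat_lit 1) (nat_lit 20500) Net.nil)))))))))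
noncomputable def X1_4 : Net := (Net.cons (nat_lit 1) (nat_lit 5505296) (Net.cons (nat_lit 2) (nat_lit 139552) (Net.cons (nat_lit 8) (nat_lit 128) (Net.cons (nat_lit 16) (nat_lit 162) (Net.cons (nat_lit 8) (nat_lit 212) (Net.cons (nat_lit 4) (nat_lit 131082) (Net.cons (nat_lit 2) (nat_lit 143664) (Net.cons (nat_lit 1) (nat_lit 5570832) Net.nil))))))))
noncomputable def X1_5 : Net := (Net.cons (nat_lit 1) (nat_lit 1376272) (Net.cons (nat_lit 2) (nat_lit 2293776) (Net.cons (nat_lit 4) (nat_lit 526336) (Net.cons (nat_lit 8) (nat_lit 88) (Net.cons (nat_lit 16) (nat_lit 218) (Net.cons (nat_lit 8) (nat_lit 90) (Net.cons (nat_lit 4) (nat_lit 788748) (Net.cons (nat_lit 2) (nat_lit 3346448) (Net.cons (nat_lit 1) (nat_lit 348160) Net.nil)))))))))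
noncomputable def X1 : List Net := [X1_0, X1_1, X1_2, X1_3, X1_4, X1_5]
noncomputable def ws : List (List Nat) := [[12, 1, 16, 9, 25], [4, 11, 23, 19, 21], [13, 5, 23, 9, 23]]
noncomputable def W : List (List Nat) := [[2, 4, 6, 1, 1, 5], [2, 2, 2, 3, 1], [9, 8, 9, 7, 10, 7, 9, 7, 10, 8], [7, 9, 8], [11, 11, 13, 12, 13, 11, 11], [11, 13, 11, 11, 14, 14, 11, 14, 11, 11]]
noncomputable def c : List Lvl := [⟨(nat_lit 19), [[(nat_lit 1)],
  [(nat_lit 3)],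
  [(nat_lit 5)]], (nat_lit 3)⟩,
  ⟨(nat_lit 11), [[(nat_lit 7)],
  [(nat_lit 9)]], (nat_lit 4)⟩,
  ⟨(nat_lit 10), [[(nat_lit 11)],
  [(nat_lit 13)]], (nat_lit 4)⟩,
  ⟨(nat_lit 6), [[(nat_lit 15)],
  [(nat_lit 17)],
  [(nat_lit 12), (nat_lit 14)]], (nat_lit 2)⟩,
  ⟨(nat_lit 5), [[(nat_lit 17)]], (nat_lit 2)⟩]
noncomputable def cz : List Lvl := [⟨(nat_lit 20), [[(nat_lit 3)]], (nat_lit 4)⟩]
noncomputable def Ts : List (List (List Nat)) := [[[], [2], [1], [2, 2], [1, 1]]]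
noncomputable def T1 : Tr := (.base (nat_lit 8388606) (.focus 0 (.sym [[1]] (.cons [] 10 1 (.op 4 0 (.focus 0 (.cons [] 0 1 (.op 4 0 (.op 4 0 (.focus 0 (.cons [] 0 1 (.op 7 5 (.op 7 0 (.focus 0 (.cons [] 0 1 (.base (nat_lit 52) (.focus 0 (.op 4 0 (.focus 0 (.cons [] 0 1 .triv .nil))))) .nil)))) .nil)))) .nil))) (.cons [5] 10 0 (.op 4 0 (.focus 0 (.cons [6, 2] 0 0 (.op 4 0 (.op 4 0 (.focus 0 (.cons [1, 1] 0 0 (.base (nat_lit 5731070) (.op 7 6 (.and 1 0 (.dead0 0)))) .nil)))) .nil))) .nil)))))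
noncomputable def T1K : List (List Nat) := [[1]]
noncomputable def T1F : List (List Nat) := [[], [1]]
noncomputable def T2 : Tr := (.op 5 0 (.focus 0 (.base (nat_lit 8388606) (.focus 0 (.cons [] 0 5 (.op 2 0 (.xor 0 3 (.focus 0 (.sym [[1]] (.cons [] 4 1 (.op 4 0 (.focus 0 (.cons [] 0 1 (.op 4 0 (.focus 0 (.cons [] 0 1 (.op 4 0 (.focus 0 (.cons [] 0 1 .triv .nil))) .nil))) .nil))) (.cons [1] 4 0 (.op 4 0 (.focus 0 (.cons [5, 1] 0 0 (.base (nat_lit 5731070) (.op 4 1 (.and 1 0 (.dead0 0)))) .nil))) (.cons [5, 4] 4 0 (.op 4 0 (.focus 0 (.cons [7, 3] 0 0 (.op 4 0 (.focus 0 (.cons [1, 6] 0 0 (.base (nat_lit 52) (.and 0 10 (.dead0 0))) .nil))) .nil))) (.cons [9, 4] 4 0 (.op 4 0 (.focus 0 (.cons [3, 2] 0 0 (.op 4 0 (.focus 0 (.cons [5] 0 0 (.base (nat_lit 52) (.and 0 10 (.dead0 0))) .nil))) .nil))) .nil)))))))) (.cons [5] 0 0 (.op 2 0 (.xor 0 3 (.focus 0 (.sym [[1]] (.cons [] 4 0 (.op 4 0 (.focus 0 (.cons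 [5, 2] 0 0 (.op 4 0 (.focus 0 (.cons [4, 1] 0 0 (.base (nat_lit 65672) (.base (nat_lit 262658) (.op 4 0 (.and 2 0 (.op 7 2 (.and 1 0 (.dead0 0))))))) .nil))) .nil))) (.cons [1] 4 0 (.op 4 0 (.focus 0 (.cons [1] 0 0 (.base (nat_lit 5731070) (.op 4 1 (.and 1 0 (.dead0 0)))) .nil))) (.cons [5, 4] 4 0 (.op 4 0 (.focus 0 (.cons [2] 0 0 (.op 4 0 (.focus 0 (.cons [6, 1] 0 0 (.base (nat_lit 52) (.and 0 10 (.dead0 0))) .nil))) .nil))) (.cons [9, 4] 4 0 (.op 4 0 (.focus 0 (.cons [4, 1] 0 0 (.op 4 0 (.focus 0 (.cons [5, 1] 0 0 (.base (nat_lit 52) (.and 0 10 (.dead0 0))) .nil))) .nil))) .nil)))))))) .nil))))))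
noncomputable def T2K : List (List Nat) := [[3]]
noncomputable def T2F : List (List Nat) := [[], [1]]
noncomputable def rels : List (List Nat × List Nat) := [(wpow [0, 2] 6, [])]
noncomputable def π : Net := (Net.cons (nat_lit 1) (nat_lit 1328384) (Net.cons (nat_lit 2) (nat_lit 1245968) (Net.cons (nat_lit 4) (nat_lit 721664) (Net.cons (nat_lit 8) (nat_lit 52) (Net.cons (nat_lit 16) (nat_lit 244) (Net.cons (nat_lit 8) (nat_lit 98) (Net.cons (nat_lit 4) (nat_lit 855050) (Net.cons (nat_lit 2) (nat_lit 143362) (Net.cons (nat_lit 1) (nat_lit 267584) Net.nil)))))))))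
noncomputable def y : List Nat := [5, 10]
noncomputable def pts : List Nat := [21]

end CF.Bt.OutM22
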