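import Cfsg.Agent.Bt.Defs

set_option autoImplicit false
set_option maxRecDepth 1000000

namespace CF.Bt.OutM23

open CF.Comp

noncomputable def X_0 : Net := (Net.cons (nat_lit 1) (nat_lit 1048576) (Net.cons (nat_lit 2) (nat_lit 1253936) (Net.cons (nat_lit 4) (nat_lit 393216) (Net.cons (nat_lit 8) (nat_lit 64) (Net.cons (nat_lit 16) (nat_lit 113) (Net.cons (nat_lit 8) (nat_lit 215) (Net.cons (nat_lit 4) (nat_lit 198400) (Net.cons (nat_lit 2) (nat_lit 4880) (Net.cons (nat_lit 1) (nat_lit 266580) Net.nil)))))))))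
noncomputable def X_1 : Net := (Net.cons (nat_lit 1) (nat_lit 5509120) (Net.cons (nat_lit 2) (nat_lit 1053232) (Net.cons (nat_lit 4) (nat_lit 327936) (Net.cons (nat_lit 8) (nat_lit 36) (Net.cons (nat_lit 16) (nat_lit 54) (Net.cons (nat_lit 8) (nat_lit 178) (Net.cons (nat_lit 4) (nat_lit 66059) (Net.cons (nat_lit 2) (nat_lit 3280947) (Net.cons (nat_lit 1) (nat_lit 5571584) Net.nil)))))))))
noncomputable def X_2 : Net := (Net.cons (nat_lit 1) (nat_lit 344064) (Net.cons (nat_lit 2) (nat_lit 8192) (Net.cons (nat_lit 4) (nat_lit 525312) (Net.cons (nat_lit 8) (nat_lit 67) (Net.cons (nat_lit 16) (nat_lit 195) (Net.cons (nat_lit 8) (nat_lit 42) (Net.cons (nat_lit 4) (nat_lit 787722) (Net.cons (nat_lit 2) (nat_lit 1253666) (Net.cons (nat_lit 1) (nat_lit 69888) Net.nil)))))))))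
noncomputable def X : List Net := [X_0, X_1, X_2]
noncomputable def X1_0 : Net := (Net.cons (nat_lit 1) (nat_lit 1380352) (Net.cons (nat_lit 2) (nat_lit 3154448) (Net.cons (nat_lit 4) (nat_lit 459264) (Net.cons (nat_lit 8) (nat_lit 8) (Net.cons (nat_lit 16) (nat_lit 61) (Net.cons (nat_lit 8) (nat_lit 52) (Net.cons (nat_lit 4) (nat_lit 917512) (Net.cons (nat_lit 2) (nat_lit 3281169) (Net.cons (nat_lit 1) (nat_lit 1114436) Net.nil)))))))))
noncomputable def X1_1 : Net := (Net.cons (nat_lit 1) (nat_lit 344064) (Net.cons (nat_lit 2) (nat_lit 8192) (Net.cons (nat_lit 4) (nat_lit 525312) (Net.cons (nat_lit 8) (nat_lit 67) (Net.cons (nat_lit 16) (nat_lit 195) (Net.cons (nat_lit 8) (nat_lit 42) (Net.cons (nat_lit 4) (nat_lit 787722) (Net.cons (nat_lit 2) (nat_lit 1253666) (Net.cons (nat_lit 1) (nat_lit 69888) Net.nil)))))))))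
noncomputable def X1_2 : Net := (Net.cons (nat_lit 1) (nat_lit 1053696) (Net.cons (nat_lit 2) (nat_lit 3355168) (Net.cons (nat_lit 4) (nat_lit 1024) (Net.cons (nat_lit 8) (nat_lit 7) (Net.cons (nat_lit 16) (nat_lit 71) (Net.cons (nat_lit 8) (nat_lit 36) (Net.cons (nat_lit 4) (nat_lit 525060) (Net.cons (nat_lit 2) (nat_lit 2105891) (Net.cons (nat_lit 1) (nat_lit 82949) Net.nil)))))))))
noncomputable def X1_3 : Net := (Net.cons (nat_lit 1) (nat_lit 4211968) (Net.cons (nat_lit 2) (nat_lit 1118752) (Net.cons (nat_lit 4) (nat_lit 2048) (Net.cons (nat_lit 8) (nat_lit 96) (Net.cons (nat_lit 16) (nat_lit 108) (Net.cons (nat_lit 8) (nat_lit 44) (Net.cons (nat_lit 4) (nat_lit 658178) (Net.cons (nat_lit 2) (nat_lit 1184034) (Net.cons (nat_lit 1) (nat_lit 5328964) Net.nil)))))))))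
noncomputable def X1_4 : Net := (Net.cons (nat_lit 1) (nat_lit 1280) (Net.cons (nat_lit 2) (nat_lit 16) (Net.cons (nat_lit 4) (nat_lit 65536) (Net.cons (nat_lit 8) (nat_lit 118) (Net.cons (nat_lit 16) (nat_lit 127) (Net.cons (nat_lit 8) (nat_lit 112) (Net.cons (nat_lit 4) (nat_lit 67073) (Net.cons (nat_lit 2) (nat_lit 1049363) (Net.cons (nat_lit 1) (nat_lit 70976) Net.nil)))))))))
noncomputable def X1_5 : Net := (Net.cons (nat_lit 1) (nat_lit 1052928) (Net.cons (nat_lit 2) (nat_lit 3219504) (Net.cons (nat_lit 4) (nat_lit 855552) (Net.cons (nat_lit 8) (nat_lit 193) (Net.cons (nat_lit 16) (nat_lit 213) (Net.cons (nat_lit 8) (nat_lit 233) (Net.cons (nat_lit 4) (nat_lit 67330) (Net.cons (nat_lit 2) (nat_lit 2236720) (Net.cons (nat_lit 1) (nat_lit 332036) Net.nil)))))))))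
noncomputable def X1_6 : Net := (Net.cons (nat_lit 1) (nat_lit 65536) (Net.cons (nat_lit 2) (nat_lit 12288) (Net.cons (nat_lit 4) (nat_lit 458752) (Net.cons (nat_lit 8) (nat_lit 18) (Net.cons (nat_lit 16) (nat_lit 82) (Net.cons (nat_lit 8) (nat_lit 18) (Net.cons (nat_lit 4) (nat_lit 461824) (Net.cons (nat_lit 2) (nat_lit 1191936) (Net.cons (nat_lit 1) (nat_lit 65540) Net.nil)))))))))
noncomputable def X1_7 : Net := (Net.cons (nat_lit 1) (nat_lit 5575680) (Net.cons (nat_lit 2) (nat_lit 3154688) (Net.cons (nat_lit 4) (nat_lit 131072) (Net.cons (nat_lit 8) (nat_lit 131) (Net.cons (nat_lit 16) (nat_lit 199) (Net.cons (nat_lit 8) (nat_lit 139) (Net.cons (nat_lit 4) (nat_lit 393220) (Net.cons (nat_lit 2) (nat_lit 3289856) (Net.cons (nat_lit 1) (nat_lit 5575680) Net.nil)))))))))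
noncomputable def X1_8 : Net := (Net.cons (nat_lit 1) (nat_lit 21828) (Net.cons (nat_lit 2) (nat_lit 2171392) (Net.cons (nat_lit 4) (nat_lit 133376) (Net.cons (nat_lit 8) (nat_lit 45) (Net.cons (nat_lit 16) (nat_lit 173) (Net.cons (nat_lit 8) (nat_lit 172) (Net.cons (nat_lit 4) (nat_lit 918020) (Net.cons (nat_lit 2) (nat_lit 2105345) (Net.cons (nat_lit 1) (nat_lit 1396740) Net.nil)))))))))
noncomputable def X1_9 : Net := (Net.cons (nat_lit 1) (nat_lit 1135680) (Net.cons (nat_lit 2) (nat_lit 3211280) (Net.cons (nat_lit 4) (nat_lit 590080) (Net.cons (nat_lit 8) (nat_lit 13) (Net.cons (nat_lit 16) (nat_lit 13) (Net.cons (nat_lit 8) (nat_lit 29) (Net.cons (nat_lit 4) (nat_lit 66313) (Net.cons (nat_lit 2) (nat_lit 2170896) (Net.cons (nat_lit 1) (nat_lit 1070148) Net.nil)))))))))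
noncomputable def X1 : List Net := [X1_0, X1_1, X1_2, X1_3, X1_4, X1_5, X1_6, X1_7, X1_8, X1_9]
noncomputable def ws : List (List Nat) := [[22, 1, 13, 5, 13, 9, 21, 13, 20, 21, 23], [5, 1, 7, 5, 14, 11, 18, 16, 17, 20, 22, 24], [14, 1, 8, 8, 15, 9, 15, 14, 19, 21]]
noncomputable def W : List (List Nat) := [[1, 3, 3, 3, 6, 2, 4, 2], [1, 1, 3, 2, 4, 5], [7, 7, 10, 8, 9, 8], [8, 10, 7, 10, 7], [11, 14, 12, 14, 14, 11, 13, 12], [11, 14, 12, 12, 13, 12, 12, 12], [18, 16, 18, 16, 16, 18, 15], [18, 15, 17, 16, 18, 16, 16, 18], [16, 16, 18, 15, 17, 16, 16], [24, 22, 24, 24, 19, 24, 21]]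
noncomputable def c : List Lvl := [⟨(nat_lit 4), [[(nat_lit 1)],
  [(nat_lit 3)],
  [(nat_lit 5)]], (nat_lit 4)⟩,
  ⟨(nat_lit 5), [[(nat_lit 7)],
  [(nat_lit 9)]], (nat_lit 5)⟩,
  ⟨(nat_lit 15), [[(nat_lit 11)],
  [(nat_lit 13)]], (nat_lit 4)⟩,
  ⟨(nat_lit 1), [[(nat_lit 15)],
  [(nat_lit 17)]], (nat_lit 4)⟩,
  ⟨(nat_lit 18), [[(nat_lit 19)],
  [(nat_lit 21)],
  [(nat_lit 23)]], (nat_lit 2)⟩,
  ⟨(nat_lit 16), [[(nat_lit 25)]], (nat_lit 2)⟩]
noncomputable def cz : List Lvl := [⟨(nat_lit 16), [[(nat_lit 3)]], (nat_lit 10)⟩]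
noncomputable def Ts : List (List (List Nat)) := [[[], [2], [1], [1, 1], [2, 2], [2, 2, 2], [1, 1, 1], [1, 1, 1, 1], [2, 2, 2, 2], [1, 1, 1, 1, 1], [2, 2, 2, 2, 2]]]
noncomputable def T1 : Tr := (.base (nat_lit 8388607) (.focus 0 (.sym [[1]] (.cons [] 22 1 (.op 4 0 (.focus 0 (.cons [] 0 1 (.op 4 0 (.focus 0 (.cons [] 0 1 (.op 4 0 (.op 4 0 (.focus 0 (.cons [] 0 1 (.op 4 0 (.op 4 0 (.op 4 0 (.op 4 0 (.focus 0 (.cons [] 0 1 (.base (nat_lit 198656) (.focus 0 (.base (nat_lit 76) (.op 4 0 (.focus 0 (.cons [] 0 1 .triv .nil)))))) .nil)))))) .nil)))) .nil))) .nil))) .nil))))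
noncomputable def T1K : List (List Nat) := [[1]]
noncomputable def T1F : List (List Nat) := [[], [1]]
noncomputable def T2 : Tr := (.op 5 0 (.focus 0 (.base (nat_lit 8388607) (.focus 0 (.cons [] 0 11 (.op 2 0 (.xor 0 3 (.focus 0 (.sym [[1]] (.cons [] 10 1 (.op 4 0 (.focus 0 (.cons [] 0 1 (.op 4 0 (.focus 0 (.cons [] 0 1 (.op 4 0 (.focus 0 (.cons [] 0 1 (.op 4 0 (.focus 0 (.cons [] 0 1 .triv .nil))) .nil))) .nil))) .nil))) (.cons [1] 10 0 (.op 4 0 (.focus 0 (.cons [3, 1] 0 0 (.op 4 0 (.focus 0 (.cons [9, 2] 0 0 (.base (nat_lit 8355404) (.op 4 1 (.op 4 0 (.and 2 0 (.dead0 0))))) .nil))) .nil))) .nil)))))) .nil)))))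
noncomputable def T2K : List (List Nat) := [[3]]
noncomputable def T2F : List (List Nat) := [[], [1]]
noncomputable def rels : List (List Nat × List Nat) := [(wpow [0, 2, 2, 1] 5, [])]
noncomputable def pts : List Nat := [13]

end CF.Bt.OutM23
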