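import Cfsg.Agent.Bt.Defs

set_option autoImplicit false
set_option maxRecDepth 1000000

namespace CF.Bt.OutM24

open CF.Comp

noncomputable def X_0 : Net := (Net.cons (nat_lit 1) (nat_lit 5260368) (Net.cons (nat_lit 2) (nat_lit 2170928) (Net.cons (nat_lit 8) (nat_lit 131) (Net.cons (nat_lit 16) (nat_lit 159) (Net.cons (nat_lit 8) (nat_lit 177) (Net.cons (nat_lit 4) (nat_lit 722947) (Net.cons (nat_lit 2) (nat_lit 1245458) (Net.cons (nat_lit 1) (nat_lit 82177) Net.nil))))))))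
noncomputable def X_1 : Net := (Net.cons (nat_lit 1) (nat_lit 1131536) (Net.cons (nat_lit 2) (nat_lit 3145984) (Net.cons (nat_lit 4) (nat_lit 132096) (Net.cons (nat_lit 8) (nat_lit 98) (Net.cons (nat_lit 16) (nat_lit 247) (Net.cons (nat_lit 8) (nat_lit 225) (Net.cons (nat_lit 4) (nat_lit 396298) (Net.cons (nat_lit 2) (nat_lit 139569) (Net.cons (nat_lit 1) (nat_lit 5588228) Net.nil)))))))))
noncomputable def X_2 : Net := (Net.cons (nat_lit 1) (nat_lit 4199428) (Net.cons (nat_lit 2) (nat_lit 3215632) (Net.cons (nat_lit 4) (nat_lit 68608) (Net.cons (nat_lit 8) (nat_lit 80) (Net.cons (nat_lit 16) (nat_lit 127) (Net.cons (nat_lit 8) (nat_lit 199) (Net.cons (nat_lit 4) (nat_lit 591875) (Net.cons (nat_lit 2) (nat_lit 3285298) (Net.cons (nat_lit 1) (nat_lit 5576017) Net.nil)))))))))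
noncomputable def X : List Net := [X_0, X_1, X_2]
noncomputable def X1_0 : Net := (Net.cons (nat_lit 1) (nat_lit 16388) (Net.cons (nat_lit 2) (nat_lit 143616) (Net.cons (nat_lit 4) (nat_lit 852736) (Net.cons (nat_lit 8) (nat_lit 154) (Net.cons (nat_lit 16) (nat_lit 251) (Net.cons (nat_lit 8) (nat_lit 60) (Net.cons (nat_lit 4) (nat_lit 917505) (Net.cons (nat_lit 2) (nat_lit 3354642) (Net.cons (nat_lit 1) (nat_lit 68) Net.nil)))))))))
noncomputable def X1_1 : Net := (Net.cons (nat_lit 1) (nat_lit 4195328) (Net.cons (nat_lit 2) (nat_lit 1253936) (Net.cons (nat_lit 4) (nat_lit 524544) (Net.cons (nat_lit 8) (nat_lit 130) (Net.cons (nat_lit 16) (nat_lit 246) (Net.cons (nat_lit 8) (nat_lit 182) (Net.cons (nat_lit 4) (nat_lit 394509) (Net.cons (nat_lit 2) (nat_lit 2228224) (Net.cons (nat_lit 1) (nat_lit 4539652) Net.nil)))))))))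
noncomputable def X1_2 : Net := (Net.cons (nat_lit 1) (nat_lit 1331456) (Net.cons (nat_lit 2) (nat_lit 3146272) (Net.cons (nat_lit 4) (nat_lit 198656) (Net.cons (nat_lit 8) (nat_lit 7) (Net.cons (nat_lit 16) (nat_lit 15) (Net.cons (nat_lit 8) (nat_lit 31) (Net.cons (nat_lit 4) (nat_lit 263433) (Net.cons (nat_lit 2) (nat_lit 135729) (Net.cons (nat_lit 1) (nat_lit 1118276) Net.nil)))))))))
noncomputable def X1_3 : Net := (Net.cons (nat_lit 1) (nat_lit 5263620) (Net.cons (nat_lit 2) (nat_lit 8960) (Net.cons (nat_lit 4) (nat_lit 131328) (Net.cons (nat_lit 8) (nat_lit 6) (Net.cons (nat_lit 16) (nat_lit 143) (Net.cons (nat_lit 8) (nat_lit 103) (Net.cons (nat_lit 4) (nat_lit 262668) (Net.cons (nat_lit 2) (nat_lit 3289872) (Net.cons (nat_lit 1) (nat_lit 1052948) Net.nil)))))))))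
noncomputable def X1_4 : Net := (Net.cons (nat_lit 1) (nat_lit 4260164) (Net.cons (nat_lit 2) (nat_lit 70144) (Net.cons (nat_lit 4) (nat_lit 524288) (Net.cons (nat_lit 8) (nat_lit 6) (Net.cons (nat_lit 16) (nat_lit 174) (Net.cons (nat_lit 8) (nat_lit 179) (Net.cons (nat_lit 4) (nat_lit 262657) (Net.cons (nat_lit 2) (nat_lit 1126960) (Net.cons (nat_lit 1) (nat_lit 4260164) Net.nil)))))))))
noncomputable def X1_5 : Net := (Net.cons (nat_lit 1) (nat_lit 4542528) (Net.cons (nat_lit 2) (nat_lit 1184512) (Net.cons (nat_lit 4) (nat_lit 131328) (Net.cons (nat_lit 8) (nat_lit 146) (Net.cons (nat_lit 16) (nat_lit 187) (Net.cons (nat_lit 8) (nat_lit 194) (Net.cons (nat_lit 4) (nat_lit 67845) (Net.cons (nat_lit 2) (nat_lit 1049376) (Net.cons (nat_lit 1) (nat_lit 1397780) Net.nil)))))))))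
noncomputable def X1_6 : Net := (Net.cons (nat_lit 1) (nat_lit 1344) (Net.cons (nat_lit 2) (nat_lit 1187888) (Net.cons (nat_lit 4) (nat_lit 525312) (Net.cons (nat_lit 8) (nat_lit 36) (Net.cons (nat_lit 16) (nat_lit 244) (Net.cons (nat_lit 8) (nat_lit 232) (Net.cons (nat_lit 4) (nat_lit 591872) (Net.cons (nat_lit 2) (nat_lit 3277104) (Net.cons (nat_lit 1) (nat_lit 1065300) Net.nil)))))))))
noncomputable def X1_7 : Net := (Net.cons (nat_lit 1) (nat_lit 262148) (Net.cons (nat_lit 2) (nat_lit 3146528) (Net.cons (nat_lit 4) (nat_lit 524288) (Net.cons (nat_lit 8) (nat_lit 136) (Net.cons (nat_lit 16) (nat_lit 184) (Net.cons (nat_lit 8) (nat_lit 193) (Net.cons (nat_lit 4) (nat_lit 2564) (Net.cons (nat_lit 2) (nat_lit 1188641) (Net.cons (nat_lit 1) (nat_lit 279632) Net.nil)))))))))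
noncomputable def X1_8 : Net := (Net.cons (nat_lit 1) (nat_lit 283664) (Net.cons (nat_lit 2) (nat_lit 139280) (Net.cons (nat_lit 4) (nat_lit 1024) (Net.cons (nat_lit 8) (nat_lit 98) (Net.cons (nat_lit 16) (nat_lit 226) (Net.cons (nat_lit 8) (nat_lit 86) (Net.cons (nat_lit 4) (nat_lit 1024) (Net.cons (nat_lit 2) (nat_lit 2105377) (Net.cons (nat_lit 1) (nat_lit 1331216) Net.nil)))))))))
noncomputable def X1_9 : Net := (Net.cons (nat_lit 1) (nat_lit 5506048) (Net.cons (nat_lit 2) (nat_lit 2236688) (Net.cons (nat_lit 4) (nat_lit 590080) (Net.cons (nat_lit 8) (nat_lit 42) (Net.cons (nat_lit 16) (nat_lit 107) (Net.cons (nat_lit 8) (nat_lit 58) (Net.cons (nat_lit 4) (nat_lit 590093) (Net.cons (nat_lit 2) (nat_lit 2097456) (Net.cons (nat_lit 1) (nat_lit 4456468) Net.nil)))))))))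
noncomputable def X1 : List Net := [X1_0, X1_1, X1_2, X1_3, X1_4, X1_5, X1_6, X1_7, X1_8, X1_9]
noncomputable def ws : List (List Nat) := [[3, 3, 5, 11, 7, 18, 18, 12, 21, 15, 21, 31, 27, 25], [11, 3, 5, 21, 9, 22, 13, 15, 18, 22, 27, 31], [27, 3, 8, 5, 21, 9, 13, 12, 22, 29]]
noncomputable def W : List (List Nat) := [[6, 1, 3, 2, 6, 4], [7, 7, 4, 7, 4, 4], [4, 8, 8, 4, 4, 4, 7, 4], [10, 11, 11, 11, 10, 12, 9, 12], [10, 11, 10, 10, 12, 12, 12, 12, 12, 10], [15, 13, 16, 16], [13, 15, 13, 16, 13], [18, 19, 19, 17, 19], [18, 19, 17, 17, 20, 17, 20], [17, 17, 20, 18, 20, 17]]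
noncomputable def c : List Lvl := [⟨(nat_lit 12), [[(nat_lit 1)],
  [(nat_lit 3)],
  [(nat_lit 5)]], (nat_lit 4)⟩,
  ⟨(nat_lit 1), [[(nat_lit 3)],
  [(nat_lit 7)]], (nat_lit 4)⟩,
  ⟨(nat_lit 8), [[(nat_lit 9)],
  [(nat_lit 11)]], (nat_lit 4)⟩,
  ⟨(nat_lit 19), [[(nat_lit 13)],
  [(nat_lit 15)]], (nat_lit 4)⟩,
  ⟨(nat_lit 16), [[(nat_lit 17)],
  [(nat_lit 19)]], (nat_lit 4)⟩,
  ⟨(nat_lit 14), [[(nat_lit 21)],
  [(nat_lit 23)],
  [(nat_lit 25)]], (nat_lit 3)⟩,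
  ⟨(nat_lit 2), [[(nat_lit 25)]], (nat_lit 2)⟩]
noncomputable def cz : List Lvl := [⟨(nat_lit 20), [[(nat_lit 3)]], (nat_lit 10)⟩]
noncomputable def Ts : List (List (List Nat)) := [[[], [1], [2], [2, 2], [1, 1], [1, 1, 1], [2, 2, 2], [2, 2, 2, 2], [1, 1, 1, 1], [1, 1, 1, 1, 1], [2, 2, 2, 2, 2]]]
noncomputable def T1 : Tr := (.sym [[1]] (.cons [] 22 1 (.op 4 0 (.focus 0 (.cons [] 0 1 (.op 4 0 (.focus 0 (.cons [] 0 1 (.op 4 0 (.op 4 0 (.focus 0 (.cons [] 0 1 (.op 4 0 (.op 4 0 (.op 4 0 (.op 4 0 (.focus 0 (.cons [] 0 1 (.base (nat_lit 393728) (.op 4 0 (.op 4 0 (.focus 0 (.base (nat_lit 15789309) (.op 7 0 (.op 7 0 (.focus 0 (.cons [] 0 1 (.op 4 7 (.focus 0 (.cons [] 0 1 .triv .nil))) .nil))))))))) .nil)))))) .nil)))) .nil))) .nil))) (.cons [5] 0 0 (.op 5 0 (.and 1 0 (.dead0 0))) .nil)))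
noncomputable def T1K : List (List Nat) := [[1]]
noncomputable def T1F : List (List Nat) := [[], [1]]
noncomputable def T2 : Tr := (.sym [[1]] (.cons [] 0 11 (.op 2 0 (.xor 0 1 (.focus 0 (.sym [[1]] (.cons [] 10 1 (.op 4 0 (.focus 0 (.cons [] 0 1 (.op 4 0 (.focus 0 (.cons [] 0 1 (.op 4 0 (.focus 0 (.cons [] 0 1 (.op 4 0 (.focus 0 (.cons [] 0 1 (.op 4 0 (.focus 0 (.cons [] 0 1 .triv .nil))) .nil))) .nil))) .nil))) .nil))) (.cons [3] 10 0 (.op 4 0 (.focus 0 (.cons [9, 1] 0 0 (.op 4 0 (.focus 0 (.cons [9, 1] 0 0 (.op 4 0 (.focus 0 (.cons [7, 1] 0 0 (.base (nat_lit 15789309) (.op 7 7 (.op 7 0 (.and 2 0 (.dead0 0))))) .nil))) .nil))) .nil))) (.cons [19, 4] 0 0 (.op 5 0 (.and 1 0 (.dead0 0))) .nil))))))) (.cons [1] 10 0 (.op 5 0 (.and 1 0 (.dead0 0))) (.cons [5] 0 0 (.op 2 0 (.xor 0 1 (.focus 0 (.sym [[1]] (.cons [] 10 0 (.op 4 0 (.focus 0 (.cons [2] 0 0 (.op 4 0 (.focus 0 (.cons [2] 0 0 (.op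 4 0 (.focus 0 (.cons [5, 4] 0 0 (.base (nat_lit 15789309) (.op 4 0 (.op 4 0 (.op 4 0 (.op 7 3 (.op 7 0 (.op 7 0 (.and 3 0 (.and 0 3 (.xor 1 0 (.dead 0))))))))))) .nil))) .nil))) .nil))) (.cons [3] 10 0 (.op 4 0 (.focus 0 (.cons [18, 4] 0 0 (.op 4 0 (.focus 0 (.cons [6, 12, 4] 0 0 (.op 4 0 (.focus 0 (.cons [2, 4] 0 0 (.base (nat_lit 15789309) (.op 4 1 (.op 4 0 (.and 2 0 (.dead0 0))))) .nil))) .nil))) .nil))) (.cons [19, 4] 0 0 (.op 5 0 (.and 1 0 (.dead0 0))) .nil))))))) (.cons [2] 10 0 (.op 5 0 (.and 1 0 (.dead0 0))) .nil)))))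
noncomputable def T2K : List (List Nat) := [[3]]
noncomputable def T2F : List (List Nat) := [[], [1]]
noncomputable def rels : List (List Nat × List Nat) := [(wpow [0, 2, 1, 2, 2, 2, 2] 3, []), (wpow [0, 2, 2] 7, [])]
noncomputable def pts : List Nat := [3]

end CF.Bt.OutM24
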